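import Groth.Agent.GrassLib.Functor
import Mathlib.LinearAlgebra.Matrix.NonsingularInverse
import Mathlib.LinearAlgebra.Matrix.ToLin

/-!
# Sub-bundles of free modules given by a basis with a unit minor
-/

set_option autoImplicit false
set_option linter.unusedSectionVars false
set_option linter.style.haveILetI false

universe u

open TensorProduct Groth.Agent.GrassLib

namespace Groth.Agent.LinkGr22

variable {d r : ℕ}

section Ring

variable {A B : Type u} [CommRing A] [CommRing B]

/-- Quotient finite projective of rank `k`. -/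
def IsGr (k : ℕ) {M : Type u} [AddCommGroup M] [Module A M] (N : Submodule A M) : Prop :=
  Module.Finite A (M ⧸ N) ∧ Module.Projective A (M ⧸ N) ∧ ∀ p, Module.rankAtStalk (R := A) (M ⧸ N) p = k

/-- Two sub-bundles of the same corank, one inside the other, agree. -/
theorem eq_of_le {k : ℕ} {M : Type u} [AddCommGroup M] [Module A M] {N N' : Submodule A M} (hN : IsGr k N)
    (hN' : IsGr k N') (h : N ≤ N') : N = N' := by
  haveI := hN.1; haveI := hN.2.1; haveI := hN'.1; haveI := hN'.2.1
  let π : (M ⧸ N) →ₗ[A] (M ⧸ N') := Submodule.factor h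
  obtain ⟨s, hs⟩ := Module.projective_lifting_property π LinearMap.id (Submodule.factor_surjective h)
  have hker : Subsingleton (LinearMap.ker π) := by
    let K := LinearMap.ker π
    let pr : (M ⧸ N) →ₗ[A] K := (LinearMap.id - s.comp π).codRestrict K fun x => by
      show π (x - s (π x)) = 0
      rw [map_sub, ← LinearMap.comp_apply π s, hs, LinearMap.id_apply, sub_self]
    let e : (M ⧸ N) ≃ₗ[A] K × (M ⧸ N') :=
      LinearEquiv.ofLinear (pr.prod π) (K.subtype.coprod s) (by
        refine LinearMap.ext fun x => Prod.ext (Subtype.ext ?_) ?_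
        · show (x.1 : M ⧸ N) + s x.2 - s (π ((x.1 : M ⧸ N) + s x.2)) = x.1
          rw [map_add, show π x.1 = 0 from x.1.2, zero_add, ← LinearMap.comp_apply π s, hs, LinearMap.id_apply,
            add_sub_cancel_right]
        · show π ((x.1 : M ⧸ N) + s x.2) = x.2
          rw [map_add, show π x.1 = 0 from x.1.2, zero_add, ← LinearMap.comp_apply π s, hs, LinearMap.id_apply])
        (by
          refine LinearMap.ext fun x => ?_
          show x - s (π x) + s (π x) = x
          rw [sub_add_cancel])
    haveI : Module.Finite A K := Module.Finite.of_surjective pr fun y => ⟨y.1, Subtype.ext (by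
      show (y : M ⧸ N) - s (π y) = y
      rw [show π y.1 = 0 from y.2, map_zero, sub_zero])⟩
    haveI : Module.Projective A K := Module.Projective.of_split (K.subtype) pr (LinearMap.ext fun y => Subtype.ext (by
      show (y : M ⧸ N) - s (π y) = y
      rw [show π y.1 = 0 from y.2, map_zero, sub_zero]))
    haveI : Module.Flat A K := Module.Flat.of_projective
    refine (Module.rankAtStalk_eq_zero_iff_subsingleton (R := A) (M := K)).1 (funext fun p => ?_)
    have h1 := congrFun ((Module.rankAtStalk_eq_of_equiv e).trans (Module.rankAtStalk_prod K (M ⧸ N'))) p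
    rw [hN.2.2, Pi.add_apply, hN'.2.2] at h1
    show Module.rankAtStalk (R := A) K p = 0
    omega
  refine le_antisymm h fun x hx => ?_
  have h1 : (⟨Submodule.Quotient.mk x, (Submodule.Quotient.mk_eq_zero _).2 hx⟩ : LinearMap.ker π) = 0 :=
    Subsingleton.elim _ _
  exact (Submodule.Quotient.mk_eq_zero _).1 (congrArg Subtype.val h1)

/-- The minor of `r` vectors at the coordinates `J`. -/
def detJ (J : Fin r → Fin d) (Y : Fin r → Fin d → A) : A := Matrix.det (Matrix.of fun l i => Y l (J i))

theorem detJ_map (φ : A →+* B) (J : Fin r → Fin d) (Y : Fin r → Fin d → A) :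
    detJ J (fun l => φ ∘ Y l) = φ (detJ J Y) :=
  (RingHom.map_det φ (Matrix.of fun l i => Y l (J i))).symm

/-- Coordinate projection. -/
def pr (J : Fin r → Fin d) : (Fin d → A) →ₗ[A] (Fin r → A) := LinearMap.funLeft A A J

theorem pr_sum (J : Fin r → Fin d) (Y : Fin r → Fin d → A) (a : Fin r → A) :
    pr J (∑ l, a l • Y l) = Matrix.vecMul a (Matrix.of fun l i => Y l (J i)) := by
  funext i
  simp [pr, LinearMap.funLeft, Matrix.vecMul, dotProduct, Finset.sum_apply]

theorem coef_eq_zero {J : Fin r → Fin d} {Y : Fin r → Fin d → A} (h : IsUnit (detJ J Y)) {a : Fin r → A}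
    (ha : pr J (∑ l, a l • Y l) = 0) : a = 0 := by
  rw [pr_sum] at ha
  haveI : Invertible (Matrix.of fun l i => Y l (J i)) := Matrix.invertibleOfIsUnitDet _ h
  calc a = Matrix.vecMul (Matrix.vecMul a (Matrix.of fun l i => Y l (J i))) (⅟ (Matrix.of fun l i => Y l (J i))) := by
        rw [Matrix.vecMul_vecMul, mul_invOf_self, Matrix.vecMul_one]
    _ = 0 := by rw [ha, Matrix.zero_vecMul]

theorem linearIndependent_of_detJ {J : Fin r → Fin d} {Y : Fin r → Fin d → A} (h : IsUnit (detJ J Y)) :
    LinearIndependent A Y :=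
  Fintype.linearIndependent_iff.2 fun a ha i => congrFun (coef_eq_zero (a := a) h (by rw [ha, map_zero])) i

theorem eq_zero_of_pr {J : Fin r → Fin d} {Y : Fin r → Fin d → A} (h : IsUnit (detJ J Y)) {v : Fin d → A}
    (hv : v ∈ Submodule.span A (Set.range Y)) (h0 : pr J v = 0) : v = 0 := by
  obtain ⟨a, rfl⟩ := (Submodule.mem_span_range_iff_exists_fun A).1 hv
  rw [coef_eq_zero h h0]
  simp

/-- Spans with a unit minor are sub-bundles. -/
theorem isGr_span {J : Fin r → Fin d} (hJ : Function.Injective J) {Y : Fin r → Fin d → A}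
    (h : IsUnit (detJ J Y)) : IsGr (d - r) (Submodule.span A (Set.range Y)) := by
  classical
  rcases subsingleton_or_nontrivial A with hA | hA
  · haveI : Subsingleton ((Fin d → A) ⧸ Submodule.span A (Set.range Y)) := Quotient.instSubsingletonQuotient _
    exact ⟨inferInstance, inferInstance, fun p => absurd (Subsingleton.elim p.asIdeal ⊤) p.2.ne_top⟩
  haveI : Invertible (Matrix.of fun l i => Y l (J i)) := Matrix.invertibleOfIsUnitDet _ h
  let C := {j : Fin d // j ∉ Set.range J}
  let cf : (Fin d → A) →ₗ[A] (Fin r → A) := (Matrix.vecMulLinear (⅟ (Matrix.of fun l i => Y l (J i)))).comp (pr J)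
  let p : (Fin d → A) →ₗ[A] (Fin d → A) := LinearMap.id - (Fintype.linearCombination A Y).comp cf
  let π : (Fin d → A) →ₗ[A] (C → A) := (LinearMap.funLeft A A (Subtype.val : C → Fin d)).comp p
  have hp : ∀ v, pr J (p v) = 0 := fun v => by
    show pr J (v - ∑ l, cf v l • Y l) = 0
    rw [map_sub, pr_sum]
    show pr J v - Matrix.vecMul (Matrix.vecMul (pr J v) (⅟ (Matrix.of fun l i => Y l (J i)))) _ = 0
    rw [Matrix.vecMul_vecMul, invOf_mul_self, Matrix.vecMul_one, sub_self]
  have hker : LinearMap.ker π = Submodule.span A (Set.range Y) := by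
    refine le_antisymm (fun v hv => ?_) (fun v hv => ?_)
    · have h1 : p v = 0 := funext fun j => by
        by_cases hj : j ∈ Set.range J
        · obtain ⟨i, rfl⟩ := hj
          exact congrFun (hp v) i
        · exact congrFun (LinearMap.mem_ker.1 hv) ⟨j, hj⟩
      rw [show v = ∑ l, cf v l • Y l from sub_eq_zero.1 h1]
      exact Submodule.sum_mem _ fun l _ => Submodule.smul_mem _ _ (Submodule.subset_span ⟨l, rfl⟩)
    · rw [LinearMap.mem_ker]
      have h2 : ∑ l, cf v l • Y l ∈ Submodule.span A (Set.range Y) :=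
        Submodule.sum_mem _ fun l _ => Submodule.smul_mem _ _ (Submodule.subset_span (Set.mem_range_self l))
      have h1 : p v = 0 := eq_zero_of_pr h (Submodule.sub_mem _ hv h2) (hp v)
      show LinearMap.funLeft A A _ (p v) = 0
      rw [h1, map_zero]
  have hsurj : Function.Surjective π := fun w => by
    let v : Fin d → A := fun j => if hj : j ∈ Set.range J then 0 else w ⟨j, hj⟩
    refine ⟨v, funext fun j => ?_⟩
    have h0 : pr J v = 0 := funext fun i => dif_pos (⟨i, rfl⟩ : J i ∈ Set.range J)
    have h1 : cf v = 0 := by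
      show Matrix.vecMul (pr J v) _ = 0
      rw [h0, Matrix.zero_vecMul]
    show (v - ∑ l, cf v l • Y l) j.1 = w j
    rw [h1]
    show v j.1 - (∑ l, (0 : Fin r → A) l • Y l) j.1 = w j
    rw [show v j.1 = w j from dif_neg j.2]
    simp
  let e : ((Fin d → A) ⧸ Submodule.span A (Set.range Y)) ≃ₗ[A] (C → A) :=
    (Submodule.quotEquivOfEq _ _ hker.symm).trans (π.quotKerEquivOfSurjective hsurj)
  refine ⟨Module.Finite.equiv e.symm, Module.Projective.of_equiv e.symm, fun q => ?_⟩
  rw [Module.rankAtStalk_eq_of_equiv e, Module.rankAtStalk_eq_finrank_of_free]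
  show Module.finrank A (C → A) = d - r
  rw [Module.finrank_fintype_fun_eq_card, Fintype.card_subtype_compl, Fintype.card_fin,
    show Fintype.card {j : Fin d // j ∈ Set.range J} = r from
      ((Fintype.card_congr (Equiv.ofInjective J hJ)).symm.trans (Fintype.card_fin r))]

/-- Extension of a submodule of `A^d` along a ring map. -/
def push (φ : A →+* B) (N : Submodule A (Fin d → A)) : Submodule B (Fin d → B) :=
  Submodule.span B ((fun v => φ ∘ v) '' (N : Set (Fin d → A)))

theorem comp_smul (φ : A →+* B) (a : A) (v : Fin d → A) : φ ∘ (a • v) = φ a • (φ ∘ v) :=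
  funext fun j => map_mul φ a (v j)

theorem comp_add' (φ : A →+* B) (v w : Fin d → A) : φ ∘ (v + w) = φ ∘ v + φ ∘ w :=
  funext fun j => map_add φ (v j) (w j)

theorem push_span (φ : A →+* B) (S : Set (Fin d → A)) :
    push φ (Submodule.span A S) = Submodule.span B ((fun v => φ ∘ v) '' S) := by
  refine le_antisymm (Submodule.span_le.2 ?_) (Submodule.span_mono (Set.image_mono Submodule.subset_span))
  rintro _ ⟨v, hv, rfl⟩
  show φ ∘ v ∈ _
  induction hv using Submodule.span_induction with
  | mem v hv => exact Submodule.subset_span ⟨v, hv, rfl⟩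
  | zero => rw [show φ ∘ (0 : Fin d → A) = 0 from funext fun _ => map_zero φ]; exact zero_mem _
  | add v w _ _ h1 h2 => rw [comp_add']; exact add_mem h1 h2
  | smul a v _ h1 => rw [comp_smul]; exact Submodule.smul_mem _ _ h1

theorem push_range (φ : A →+* B) (Y : Fin r → Fin d → A) :
    push φ (Submodule.span A (Set.range Y)) = Submodule.span B (Set.range fun l => φ ∘ Y l) := by
  rw [push_span, ← Set.range_comp]
  rfl

theorem mem_push (φ : A →+* B) {N : Submodule A (Fin d → A)} {v : Fin d → A} (hv : v ∈ N) : φ ∘ v ∈ push φ N :=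
  Submodule.subset_span ⟨v, hv, rfl⟩

theorem push_mono (φ : A →+* B) {N N' : Submodule A (Fin d → A)} (h : N ≤ N') : push φ N ≤ push φ N' :=
  Submodule.span_mono (Set.image_mono h)

theorem push_push {C : Type u} [CommRing C] (φ : A →+* B) (ψ : B →+* C) (N : Submodule A (Fin d → A)) :
    push ψ (push φ N) = push (ψ.comp φ) N := by
  refine (push_span ψ ((fun v => φ ∘ v) '' (N : Set (Fin d → A)))).trans ?_
  rw [← Set.image_comp]
  rfl

theorem push_id (N : Submodule A (Fin d → A)) : push (RingHom.id A) N = N := by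
  rw [push, show (fun v : Fin d → A => RingHom.id A ∘ v) = id from rfl, Set.image_id, Submodule.span_eq]

end Ring

section Grass

variable {R : Type u} [CommRing R]

/-- A point of the Grassmannian functor in coordinates. -/
noncomputable def co {A : Type u} [CommRing A] [Algebra R A] {k : ℕ}
    (N : Module.Grassmannian A (A ⊗[R] (Fin d → R)) k) : Submodule A (Fin d → A) :=
  N.toSubmodule.map (kappa (R := R) A d).toLinearMap

theorem co_injective {A : Type u} [CommRing A] [Algebra R A] {k : ℕ} :
    Function.Injective (co : Module.Grassmannian A (A ⊗[R] (Fin d → R)) k → _) := fun _ _ h =>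
  Module.Grassmannian.ext (Submodule.map_injective_of_injective (kappa (R := R) A d).injective h)

theorem isGr_co {A : Type u} [CommRing A] [Algebra R A] {k : ℕ}
    (N : Module.Grassmannian A (A ⊗[R] (Fin d → R)) k) : IsGr k (co N) := by
  let e := Submodule.Quotient.equiv N.toSubmodule (co N) (kappa (R := R) A d) rfl
  exact ⟨Module.Finite.equiv e, Module.Projective.of_equiv e,
    fun p => (congrFun (Module.rankAtStalk_eq_of_equiv e.symm) p).trans (N.rankAtStalk_eq p)⟩

theorem exists_co_eq {A : Type u} [CommRing A] [Algebra R A] {k : ℕ} {N : Submodule A (Fin d → A)} (hN : IsGr k N) :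
    ∃ P : Module.Grassmannian A (A ⊗[R] (Fin d → R)) k, co P = N := by
  haveI := hN.1; haveI := hN.2.1
  let e := Submodule.Quotient.equiv (N.comap (kappa (R := R) A d).toLinearMap) N (kappa (R := R) A d)
    (Submodule.map_comap_eq_of_surjective (kappa (R := R) A d).surjective _)
  exact ⟨⟨N.comap (kappa (R := R) A d).toLinearMap, Module.Finite.equiv e.symm, Module.Projective.of_equiv e.symm,
    fun p => (congrFun (Module.rankAtStalk_eq_of_equiv e) p).trans (hN.2.2 p)⟩,
    Submodule.map_comap_eq_of_surjective (kappa (R := R) A d).surjective _⟩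

/-- The functor is extension of scalars in coordinates. -/
theorem co_map {A B : Type u} [CommRing A] [Algebra R A] [CommRing B] [Algebra R B] {k : ℕ} (φ : A →ₐ[R] B)
    (N : Module.Grassmannian A (A ⊗[R] (Fin d → R)) k) :
    co (Module.Grassmannian.map φ N) = push φ.toRingHom (co N) := by
  refine le_antisymm (map_le_span (A := CommAlgCat.of R A) (B := CommAlgCat.of R B) (CommAlgCat.ofHom φ) N)
    (Submodule.span_le.2 ?_)
  rintro _ ⟨_, ⟨x, hx, rfl⟩, rfl⟩
  letI : Algebra A B := φ.toAlgebra
  letI : IsScalarTower R A B := IsScalarTower.of_algebraMap_eq' φ.comp_algebraMap.symm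
  let E := TensorProduct.AlgebraTensorModule.cancelBaseChange R A B B (Fin d → R)
  refine ⟨E (1 ⊗ₜ x), ?_, ?_⟩
  · rw [SetLike.mem_coe, Module.Grassmannian.map_toSubmodule, LinearMap.mem_ker]
    show (N.toSubmodule.mkQ).baseChange B (E.symm (E (1 ⊗ₜ x))) = 0
    rw [E.symm_apply_apply, LinearMap.baseChange_tmul, Submodule.mkQ_apply, (Submodule.Quotient.mk_eq_zero _).2 hx,
      TensorProduct.tmul_zero]
  · show kappa B d (E (1 ⊗ₜ x)) = _
    rw [kappa_map]
    funext j
    exact one_mul _

/-- A linear map of `R^d` in coordinates over `A`. -/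
noncomputable def fA (f : (Fin d → R) →ₗ[R] (Fin d → R)) (A : Type u) [CommRing A] [Algebra R A] :
    (Fin d → A) →ₗ[A] (Fin d → A) :=
  ((LinearMap.toMatrix' f).map (algebraMap R A)).mulVecLin

theorem kappa_baseChange {A : Type u} [CommRing A] [Algebra R A] (f : (Fin d → R) →ₗ[R] (Fin d → R))
    (x : A ⊗[R] (Fin d → R)) : kappa A d (f.baseChange A x) = fA f A (kappa A d x) := by
  induction x using TensorProduct.induction_on with
  | zero => simp
  | add x y hx hy => simp only [map_add, hx, hy]
  | tmul a m =>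
    rw [LinearMap.baseChange_tmul, kappa_tmul, kappa_tmul]
    funext j
    rw [← LinearMap.toMatrix'_mulVec f m]
    simp only [fA, Matrix.mulVecLin_apply, Matrix.mulVec, dotProduct, Matrix.map_apply, Algebra.smul_def,
      map_sum, map_mul, Finset.sum_mul]
    exact Finset.sum_congr rfl fun i _ => mul_assoc _ _ _

theorem map_baseChange_le_iff {A : Type u} [CommRing A] [Algebra R A] {k : ℕ} (f : (Fin d → R) →ₗ[R] (Fin d → R))
    (N N' : Module.Grassmannian A (A ⊗[R] (Fin d → R)) k) :
    Submodule.map (f.baseChange A) N.toSubmodule ≤ N'.toSubmodule ↔ Submodule.map (fA f A) (co N) ≤ co N' := by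
  constructor
  · rintro h _ ⟨_, ⟨x, hx, rfl⟩, rfl⟩
    exact ⟨_, h ⟨x, hx, rfl⟩, kappa_baseChange f x⟩
  · rintro h _ ⟨x, hx, rfl⟩
    obtain ⟨y, hy, e⟩ := h ⟨_, ⟨x, hx, rfl⟩, rfl⟩
    replace e : kappa A d y = kappa A d (f.baseChange A x) := e.trans (kappa_baseChange f x).symm
    exact (kappa (R := R) A d).injective e ▸ hy

theorem ker_inf_le_iff {A : Type u} [CommRing A] [Algebra R A] {k : ℕ} (f g : (Fin d → R) →ₗ[R] (Fin d → R))
    (N N' : Module.Grassmannian A (A ⊗[R] (Fin d → R)) k) :
    LinearMap.ker (g.baseChange A) ⊓ N'.toSubmodule ≤ Submodule.map (f.baseChange A) N.toSubmodule ↔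
      LinearMap.ker (fA g A) ⊓ co N' ≤ Submodule.map (fA f A) (co N) := by
  constructor
  · rintro h _ ⟨h1, x, hx, rfl⟩
    obtain ⟨y, hy, rfl⟩ := h ⟨(kappa (R := R) A d).injective (by
      show kappa A d (g.baseChange A x) = kappa A d 0
      rw [kappa_baseChange, map_zero]; exact h1), hx⟩
    exact ⟨_, ⟨y, hy, rfl⟩, (kappa_baseChange f y).symm⟩
  · rintro h x ⟨h1, hx⟩
    obtain ⟨_, ⟨y, hy, rfl⟩, e⟩ := h ⟨show fA g A (kappa A d x) = 0 by
      rw [← kappa_baseChange, show g.baseChange A x = 0 from h1, map_zero], x, hx, rfl⟩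
    refine ⟨y, hy, (kappa (R := R) A d).injective ?_⟩
    rw [kappa_baseChange]
    exact e

end Grass

end Groth.Agent.LinkGr22
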