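import Groth.Agent.LinkGr22.Basis
import Groth.Prelude.Def_W4c1limliniiiiLG

/-!
# Linked sub-bundles and their charts
-/

set_option autoImplicit false
set_option linter.unusedSectionVars false
set_option linter.style.haveILetI false

universe u

open TensorProduct

namespace Groth.Agent.LinkGr22

/-- A chain of maps of `A^d` linked by a scalar. -/
structure Lk (A : Type u) [CommRing A] (d n : ℕ) where
  f : ℕ → (Fin d → A) →ₗ[A] (Fin d → A)
  g : ℕ → (Fin d → A) →ₗ[A] (Fin d → A)
  s : A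
  hgf : ∀ i < n, ∀ v, g i (f i v) = s • v
  hfg : ∀ i < n, ∀ v, f i (g i v) = s • v

variable {A B : Type u} [CommRing A] [CommRing B] {d r n : ℕ}

namespace Lk

/-- Linked families of submodules. -/
def Linked (L : Lk A d n) (V : ℕ → Submodule A (Fin d → A)) : Prop :=
  ∀ i < n, Submodule.map (L.f i) (V i) ≤ V (i + 1) ∧ Submodule.map (L.g i) (V (i + 1)) ≤ V i

/-- Exactness. -/
def Exact (L : Lk A d n) (V : ℕ → Submodule A (Fin d → A)) : Prop :=
  ∀ i < n, LinearMap.ker (L.g i) ⊓ V (i + 1) ≤ Submodule.map (L.f i) (V i) ∧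
    LinearMap.ker (L.f i) ⊓ V i ≤ Submodule.map (L.g i) (V (i + 1))

/-- Moving up `k` steps from `a`. -/
def up (L : Lk A d n) (a : ℕ) : ℕ → (Fin d → A) →ₗ[A] (Fin d → A)
  | 0 => LinearMap.id
  | k + 1 => (L.f (a + k)).comp (up L a k)

/-- Moving down to `a` from `a + k`. -/
def down (L : Lk A d n) : ℕ → ℕ → (Fin d → A) →ₗ[A] (Fin d → A)
  | _, 0 => LinearMap.id
  | a, k + 1 => (L.g a).comp (down L (a + 1) k)

/-- The image at level `m` of a vector of level `a`. -/
def W (L : Lk A d n) (m a : ℕ) : (Fin d → A) →ₗ[A] (Fin d → A) :=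
  if a ≤ m then L.up a (m - a) else L.down m (a - m)

theorem W_self (L : Lk A d n) (m : ℕ) (v : Fin d → A) : L.W m m v = v := by
  rw [W, if_pos le_rfl, Nat.sub_self]
  rfl

theorem W_eq_f (L : Lk A d n) {a m : ℕ} (h : a ≤ m) (v : Fin d → A) : L.W (m + 1) a v = L.f m (L.W m a v) := by
  obtain ⟨k, rfl⟩ := Nat.exists_eq_add_of_le h
  rw [W, W, if_pos (by omega), if_pos (by omega), show a + k + 1 - a = k + 1 by omega, show a + k - a = k by omega]
  rfl

theorem W_eq_g (L : Lk A d n) {a m : ℕ} (h : m < a) (v : Fin d → A) : L.W m a v = L.g m (L.W (m + 1) a v) := by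
  obtain ⟨k, rfl⟩ := Nat.exists_eq_add_of_le (show m + 1 ≤ a by omega)
  rcases Nat.eq_zero_or_pos k with rfl | hk
  · rw [Nat.add_zero, W_self, W, if_neg (by omega), show m + 1 - m = 0 + 1 by omega]
    rfl
  · rw [W, W, if_neg (by omega), if_neg (by omega), show m + 1 + k - m = k + 1 by omega,
      show m + 1 + k - (m + 1) = k by omega]
    rfl

theorem f_W (L : Lk A d n) {m : ℕ} (hm : m < n) (a : ℕ) (v : Fin d → A) :
    L.f m (L.W m a v) = (if a ≤ m then (1 : A) else L.s) • L.W (m + 1) a v := by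
  by_cases h : a ≤ m
  · rw [if_pos h, one_smul, W_eq_f L h]
  · rw [if_neg h, W_eq_g L (by omega), L.hfg m hm]

theorem g_W (L : Lk A d n) {m : ℕ} (hm : m < n) (a : ℕ) (v : Fin d → A) :
    L.g m (L.W (m + 1) a v) = (if a ≤ m then L.s else 1) • L.W m a v := by
  by_cases h : a ≤ m
  · rw [if_pos h, W_eq_f L h, L.hgf m hm]
  · rw [if_neg h, one_smul]
    exact (W_eq_g L (by omega) v).symm

theorem W_mem {L : Lk A d n} {V : ℕ → Submodule A (Fin d → A)} (hV : L.Linked V) {a : ℕ} (ha : a ≤ n)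
    {v : Fin d → A} (hv : v ∈ V a) : ∀ {m : ℕ}, m ≤ n → L.W m a v ∈ V m := by
  intro m hm
  rcases le_or_gt a m with h | h
  · obtain ⟨k, rfl⟩ := Nat.exists_eq_add_of_le h
    induction k with
    | zero => rwa [Nat.add_zero, W_self]
    | succ k ih =>
      rw [← Nat.add_assoc, W_eq_f L (by omega)]
      exact (hV (a + k) (by omega)).1 ⟨_, ih (by omega) (by omega), rfl⟩
  · obtain ⟨k, rfl⟩ := Nat.exists_eq_add_of_le (show m ≤ a by omega)
    induction k generalizing m with
    | zero => omega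
    | succ k ih =>
      rw [W_eq_g L (by omega)]
      refine (hV m (by omega)).2 ⟨_, ?_, rfl⟩
      rcases Nat.eq_zero_or_pos k with rfl | hk
      · rw [W_self]; exact hv
      · have e : m + (k + 1) = m + 1 + k := by omega
        rw [e] at hv ha ⊢
        exact ih (by omega) ha hv (by omega)

/-- Extension of scalars. -/
noncomputable def map (L : Lk A d n) (φ : A →+* B) : Lk B d n where
  f i := ((LinearMap.toMatrix' (L.f i)).map φ).mulVecLin
  g i := ((LinearMap.toMatrix' (L.g i)).map φ).mulVecLin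
  s := φ L.s
  hgf i hi v := by
    rw [Matrix.mulVecLin_apply, Matrix.mulVecLin_apply, Matrix.mulVec_mulVec, ← Matrix.map_mul, ← LinearMap.toMatrix'_comp,
      show (L.g i).comp (L.f i) = L.s • LinearMap.id from LinearMap.ext (L.hgf i hi), map_smul, LinearMap.toMatrix'_id,
      Matrix.map_smul' _ _ _ (map_mul φ), Matrix.map_one _ (map_zero φ) (map_one φ), Matrix.smul_mulVec,
      Matrix.one_mulVec]
  hfg i hi v := by
    rw [Matrix.mulVecLin_apply, Matrix.mulVecLin_apply, Matrix.mulVec_mulVec, ← Matrix.map_mul, ← LinearMap.toMatrix'_comp,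
      show (L.f i).comp (L.g i) = L.s • LinearMap.id from LinearMap.ext (L.hfg i hi), map_smul, LinearMap.toMatrix'_id,
      Matrix.map_smul' _ _ _ (map_mul φ), Matrix.map_one _ (map_zero φ) (map_one φ), Matrix.smul_mulVec,
      Matrix.one_mulVec]

theorem map_f_comp (L : Lk A d n) (φ : A →+* B) (i : ℕ) (v : Fin d → A) :
    (L.map φ).f i (φ ∘ v) = φ ∘ L.f i v := by
  funext j
  show Matrix.mulVec _ (φ ∘ v) j = φ (L.f i v j)
  rw [← RingHom.map_mulVec, LinearMap.toMatrix'_mulVec]

theorem map_g_comp (L : Lk A d n) (φ : A →+* B) (i : ℕ) (v : Fin d → A) :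
    (L.map φ).g i (φ ∘ v) = φ ∘ L.g i v := by
  funext j
  show Matrix.mulVec _ (φ ∘ v) j = φ (L.g i v j)
  rw [← RingHom.map_mulVec, LinearMap.toMatrix'_mulVec]

@[ext] theorem ext' {L L' : Lk A d n} (hf : L.f = L'.f) (hg : L.g = L'.g) (hs : L.s = L'.s) : L = L' := by
  cases L; cases L'; subst hf hg hs; rfl

theorem map_map {C : Type u} [CommRing C] (L : Lk A d n) (φ : A →+* B) (ψ : B →+* C) :
    (L.map φ).map ψ = L.map (ψ.comp φ) := by
  refine ext' (funext fun i => ?_) (funext fun i => ?_) rfl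
  · show (Matrix.map (LinearMap.toMatrix' ((LinearMap.toMatrix' (L.f i)).map φ).mulVecLin) ψ).mulVecLin = _
    simp only [← Matrix.toLin'_apply', LinearMap.toMatrix'_toLin', Matrix.map_map]
    rfl
  · show (Matrix.map (LinearMap.toMatrix' ((LinearMap.toMatrix' (L.g i)).map φ).mulVecLin) ψ).mulVecLin = _
    simp only [← Matrix.toLin'_apply', LinearMap.toMatrix'_toLin', Matrix.map_map]
    rfl

theorem map_push_f (L : Lk A d n) (φ : A →+* B) (i : ℕ) (N : Submodule A (Fin d → A)) :
    Submodule.map ((L.map φ).f i) (push φ N) = push φ (Submodule.map (L.f i) N) := by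
  rw [push, push, Submodule.map_span, Submodule.map_coe, Set.image_image, Set.image_image]
  simp only [map_f_comp]

theorem map_push_g (L : Lk A d n) (φ : A →+* B) (i : ℕ) (N : Submodule A (Fin d → A)) :
    Submodule.map ((L.map φ).g i) (push φ N) = push φ (Submodule.map (L.g i) N) := by
  rw [push, push, Submodule.map_span, Submodule.map_coe, Set.image_image, Set.image_image]
  simp only [map_g_comp]

theorem linked_push {L : Lk A d n} (φ : A →+* B) {V : ℕ → Submodule A (Fin d → A)} (hV : L.Linked V) :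
    (L.map φ).Linked fun m => push φ (V m) := fun i hi =>
  ⟨(map_push_f L φ i _).trans_le (push_mono φ (hV i hi).1), (map_push_g L φ i _).trans_le (push_mono φ (hV i hi).2)⟩

theorem map_W (L : Lk A d n) (φ : A →+* B) (m a : ℕ) (v : Fin d → A) :
    (L.map φ).W m a (φ ∘ v) = φ ∘ L.W m a v := by
  have hup : ∀ k, (L.map φ).up a k (φ ∘ v) = φ ∘ L.up a k v := by
    intro k
    induction k with
    | zero => rfl
    | succ k ih => exact (congrArg ((L.map φ).f (a + k)) ih).trans (map_f_comp L φ _ _)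
  have hdown : ∀ k b, (L.map φ).down b k (φ ∘ v) = φ ∘ L.down b k v := by
    intro k
    induction k with
    | zero => exact fun b => rfl
    | succ k ih => exact fun b => (congrArg ((L.map φ).g b) (ih (b + 1))).trans (map_g_comp L φ _ _)
  rw [W, W]
  split_ifs
  · exact hup _
  · exact hdown _ _

end Lk

/-- Chart data: coordinates at every level and levels of the generators. -/
abbrev CD (d r n : ℕ) : Type := (Fin (n + 1) → (Fin r ↪ Fin d)) × (Fin r → Fin (n + 1)) × (Fin r → Fin r)

namespace CD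

variable (σ : CD d r n)

/-- The coordinates at a level. -/
def J (m : ℕ) : Fin r → Fin d := σ.1 ⟨min m n, by omega⟩

theorem J_injective (m : ℕ) : Function.Injective (σ.J m) := (σ.1 _).injective

/-- The level of a generator. -/
def lv (l : Fin r) : ℕ := (σ.2.1 l).1

theorem lv_le (l : Fin r) : σ.lv l ≤ n := Nat.le_of_lt_succ (σ.2.1 l).2

/-- The free coordinates of the generators. -/
abbrev Crd : Type := Σ l : Fin r, {j : Fin d // j ∉ Set.range (σ.J (σ.lv l))}

/-- The generators. -/
noncomputable def vec (c : σ.Crd → A) (l : Fin r) : Fin d → A := fun j =>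
  open scoped Classical in
  if h : j ∈ Set.range (σ.J (σ.lv l)) then (if h.choose = σ.2.2 l then 1 else 0) else c ⟨l, ⟨j, h⟩⟩

theorem vec_map (φ : A →+* B) (c : σ.Crd → A) (l : Fin r) : σ.vec (φ ∘ c) l = φ ∘ σ.vec c l := by
  funext j
  simp only [vec, Function.comp_apply]
  split_ifs <;> simp

theorem pr_vec (c : σ.Crd → A) (l : Fin r) :
    pr (σ.J (σ.lv l)) (σ.vec c l) = Pi.single (σ.2.2 l) 1 := by
  classical
  funext i
  have h : σ.J (σ.lv l) i ∈ Set.range (σ.J (σ.lv l)) := ⟨i, rfl⟩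
  show σ.vec c l (σ.J (σ.lv l) i) = _
  rw [vec, dif_pos h, show h.choose = i from σ.J_injective _ h.choose_spec, Pi.single_apply]

theorem crd_card : Fintype.card σ.Crd = r * (d - r) := by
  classical
  rw [Fintype.card_sigma]
  simp only [Fintype.card_subtype_compl, Fintype.card_fin]
  rw [Finset.sum_congr rfl fun l _ => congrArg (d - ·) ((Fintype.card_congr
    (Equiv.ofInjective _ (σ.J_injective (σ.lv l)))).symm.trans (Fintype.card_fin r))]
  simp

end CD

namespace Lk

/-- The basis at level `m` of a chart point. -/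
noncomputable def rows (L : Lk A d n) (σ : CD d r n) (c : σ.Crd → A) (m : ℕ) (l : Fin r) : Fin d → A :=
  L.W m (σ.lv l) (σ.vec c l)

/-- The chart point. -/
noncomputable def chartV (L : Lk A d n) (σ : CD d r n) (c : σ.Crd → A) (m : ℕ) : Submodule A (Fin d → A) :=
  Submodule.span A (Set.range (L.rows σ c m))

/-- The minor at level `m` of a chart point. -/
noncomputable def delta (L : Lk A d n) (σ : CD d r n) (c : σ.Crd → A) (m : ℕ) : A :=
  detJ (σ.J m) (L.rows σ c m)

/-- Being in a chart. -/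
def InChart (L : Lk A d n) (σ : CD d r n) (V : ℕ → Submodule A (Fin d → A)) : Prop :=
  ∃ c : σ.Crd → A, (∀ m ≤ n, IsUnit (L.delta σ c m)) ∧ ∀ m ≤ n, V m = L.chartV σ c m

variable (L : Lk A d n) (σ : CD d r n)

theorem rows_map (φ : A →+* B) (c : σ.Crd → A) (m : ℕ) :
    (L.map φ).rows σ (φ ∘ c) m = fun l => φ ∘ L.rows σ c m l := by
  funext l
  rw [rows, σ.vec_map, map_W]
  rfl

theorem delta_map (φ : A →+* B) (c : σ.Crd → A) (m : ℕ) :
    (L.map φ).delta σ (φ ∘ c) m = φ (L.delta σ c m) := by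
  rw [delta, rows_map, detJ_map]
  rfl

theorem chartV_map (φ : A →+* B) (c : σ.Crd → A) (m : ℕ) :
    (L.map φ).chartV σ (φ ∘ c) m = push φ (L.chartV σ c m) := by
  rw [chartV, chartV, push_range, rows_map]

theorem linked_chartV (c : σ.Crd → A) : L.Linked (L.chartV σ c) := by
  refine fun i hi => ⟨?_, ?_⟩ <;> rw [chartV, Submodule.map_span, Submodule.span_le] <;> rintro _ ⟨_, ⟨l, rfl⟩, rfl⟩
  · rw [SetLike.mem_coe, rows, L.f_W hi]
    exact Submodule.smul_mem _ _ (Submodule.subset_span ⟨l, rfl⟩)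
  · rw [SetLike.mem_coe, rows, L.g_W hi]
    exact Submodule.smul_mem _ _ (Submodule.subset_span ⟨l, rfl⟩)

theorem isGr_chartV {c : σ.Crd → A} {m : ℕ} (h : IsUnit (L.delta σ c m)) : IsGr (d - r) (L.chartV σ c m) :=
  isGr_span (σ.J_injective m) h

theorem vec_mem_chartV (c : σ.Crd → A) (l : Fin r) : σ.vec c l ∈ L.chartV σ c (σ.lv l) :=
  Submodule.subset_span ⟨l, by rw [rows, W_self]⟩

/-- The chart coordinates are unique. -/
theorem chart_unique {c c' : σ.Crd → A} (h : ∀ m ≤ n, IsUnit (L.delta σ c m))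
    (e : ∀ m ≤ n, L.chartV σ c' m = L.chartV σ c m) : c' = c := by
  funext ⟨l, j, hj⟩
  have h0 : σ.vec c' l - σ.vec c l = 0 := eq_zero_of_pr (h _ (σ.lv_le l))
    (Submodule.sub_mem _ (show σ.vec c' l ∈ L.chartV σ c (σ.lv l) from e _ (σ.lv_le l) ▸ L.vec_mem_chartV σ c' l)
      (L.vec_mem_chartV σ c l))
    (by rw [map_sub, σ.pr_vec, σ.pr_vec, sub_self])
  have h1 := congrFun (sub_eq_zero.1 h0) j
  simp only [CD.vec, dif_neg hj] at h1
  exact h1

/-- Chart points are exact. -/
theorem exact_chartV {c : σ.Crd → A} (h : ∀ m ≤ n, IsUnit (L.delta σ c m)) : L.Exact (L.chartV σ c) := by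
  classical
  intro i hi
  refine ⟨?_, ?_⟩
  · rintro y ⟨hy0, hy⟩
    obtain ⟨a, rfl⟩ := (Submodule.mem_span_range_iff_exists_fun A).1 hy
    have h0 : (fun l => a l * (if σ.lv l ≤ i then L.s else 1)) = 0 := by
      refine coef_eq_zero (h i (by omega)) ?_
      rw [show (∑ l, (a l * (if σ.lv l ≤ i then L.s else 1)) • L.rows σ c i l) = 0 from ?_, map_zero]
      refine Eq.trans ?_ hy0
      rw [map_sum]
      exact Finset.sum_congr rfl fun l _ => by rw [map_smul, rows, rows, L.g_W hi, smul_smul]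
    refine Submodule.sum_mem _ fun l _ => ?_
    by_cases hl : σ.lv l ≤ i
    · refine ⟨a l • L.rows σ c i l, Submodule.smul_mem _ _ (Submodule.subset_span ⟨l, rfl⟩), ?_⟩
      rw [map_smul, rows, rows, L.f_W hi, if_pos hl, one_smul]
    · have := congrFun h0 l
      rw [Pi.zero_apply, if_neg hl, mul_one] at this
      rw [this, zero_smul]
      exact zero_mem _
  · rintro y ⟨hy0, hy⟩
    obtain ⟨a, rfl⟩ := (Submodule.mem_span_range_iff_exists_fun A).1 hy
    have h0 : (fun l => a l * (if σ.lv l ≤ i then (1 : A) else L.s)) = 0 := by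
      refine coef_eq_zero (h (i + 1) (by omega)) ?_
      rw [show (∑ l, (a l * (if σ.lv l ≤ i then (1 : A) else L.s)) • L.rows σ c (i + 1) l) = 0 from ?_, map_zero]
      refine Eq.trans ?_ hy0
      rw [map_sum]
      exact Finset.sum_congr rfl fun l _ => by rw [map_smul, rows, rows, L.f_W hi, smul_smul]
    refine Submodule.sum_mem _ fun l _ => ?_
    by_cases hl : σ.lv l ≤ i
    · have := congrFun h0 l
      rw [Pi.zero_apply, if_pos hl, mul_one] at this
      rw [this, zero_smul]
      exact zero_mem _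
    · refine ⟨a l • L.rows σ c (i + 1) l, Submodule.smul_mem _ _ (Submodule.subset_span ⟨l, rfl⟩), ?_⟩
      rw [map_smul, rows, rows, L.g_W hi, if_neg hl, one_smul]

/-- A linked family that agrees with a chart point at the generators is that chart point. -/
theorem eq_chartV {V : ℕ → Submodule A (Fin d → A)} (hV : L.Linked V) (hgr : ∀ m ≤ n, IsGr (d - r) (V m))
    {c : σ.Crd → A} (hc : ∀ l, σ.vec c l ∈ V (σ.lv l)) (h : ∀ m ≤ n, IsUnit (L.delta σ c m)) :
    ∀ m ≤ n, V m = L.chartV σ c m := fun m hm => by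
  refine (eq_of_le (L.isGr_chartV σ (h m hm)) (hgr m hm) ?_).symm
  rw [chartV, Submodule.span_le]
  rintro _ ⟨l, rfl⟩
  exact W_mem hV (σ.lv_le l) (hc l) hm

end Lk

end Groth.Agent.LinkGr22
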