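import Groth.Agent.LinkGr22.Points
import Mathlib.AlgebraicGeometry.Morphisms.IsIso
import Mathlib.AlgebraicGeometry.Morphisms.Smooth

/-!
# The charts of the linked Grassmannian
-/

set_option autoImplicit false
set_option linter.unusedSectionVars false
set_option linter.style.haveILetI false
set_option backward.isDefEq.respectTransparency.types false

universe u

open CategoryTheory CategoryTheory.Limits AlgebraicGeometry
open Groth.Agent.GrassLib W4c1limliniiii

namespace Groth.Agent.LinkGr22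

variable {R : Type u} [CommRing R] {d r n : ℕ}

/-- Polynomials in the chart coordinates. -/
abbrev PolyC (R : Type u) [CommRing R] (σ : CD d r n) : Type u := MvPolynomial σ.Crd R

/-- The product of the minors of the universal chart point. -/
noncomputable def Lk.Delta (L : Lk R d n) (σ : CD d r n) : PolyC R σ :=
  ∏ m ∈ Finset.range (n + 1), (L.at' (PolyC R σ)).delta σ MvPolynomial.X m

/-- The ring of a chart. -/
noncomputable def Lk.chartRing (L : Lk R d n) (σ : CD d r n) : CommAlgCat.{u} R :=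
  CommAlgCat.of R (Localization.Away (L.Delta σ))

/-- The universal coordinates. -/
noncomputable def Lk.cU (L : Lk R d n) (σ : CD d r n) : σ.Crd → L.chartRing σ :=
  (IsScalarTower.toAlgHom R (PolyC R σ) (Localization.Away (L.Delta σ))).toRingHom ∘ MvPolynomial.X

theorem Lk.isUnit_cU (L : Lk R d n) (σ : CD d r n) (m : ℕ) (hm : m ≤ n) :
    IsUnit ((L.at' (L.chartRing σ)).delta σ (L.cU σ) m) := by
  let φ := IsScalarTower.toAlgHom R (PolyC R σ) (Localization.Away (L.Delta σ))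
  show IsUnit ((L.at' (Localization.Away (L.Delta σ))).delta σ (φ.toRingHom ∘ MvPolynomial.X) m)
  have h : (L.at' (Localization.Away (L.Delta σ))).delta σ (φ.toRingHom ∘ MvPolynomial.X) m =
      φ ((L.at' (PolyC R σ)).delta σ MvPolynomial.X m) := by
    rw [← Lk.at_map (A := PolyC R σ) L φ]
    exact Lk.delta_map _ σ φ.toRingHom _ m
  rw [h]
  exact isUnit_of_dvd_unit (map_dvd φ (Finset.dvd_prod_of_mem _ (Finset.mem_range.2 (Nat.lt_succ_of_le hm))))
    (IsLocalization.Away.algebraMap_isUnit (L.Delta σ))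

variable {f g : Fin n → ((Fin d → R) →ₗ[R] (Fin d → R))} {s : R}
  {hI : ∀ i, (f i).comp (g i) = s • LinearMap.id ∧ (g i).comp (f i) = s • LinearMap.id}
  {X : Over (Spec (CommRingCat.of R))} (D : Rep d r n f g s hI X) (σ : CD d r n)

/-- The chart ring. -/
noncomputable abbrev Rep.U (_D : Rep d r n f g s hI X) (σ : CD d r n) : CommAlgCat.{u} R :=
  (lkOf f g s hI).chartRing σ

/-- Points in a chart. -/
def Rep.InC {A : CommAlgCat.{u} R} (p : pt A ⟶ X) : Prop := (D.L A).InChart σ (D.V p)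

theorem exists_jU : ∃ j : pt (D.U σ) ⟶ X,
    ∀ m ≤ n, D.V j m = (D.L (D.U σ)).chartV σ ((lkOf f g s hI).cU σ) m :=
  D.exists_pt ((D.L _).linked_chartV σ _) fun m hm => (D.L _).isGr_chartV σ ((lkOf f g s hI).isUnit_cU σ m hm)

/-- The chart. -/
noncomputable def Rep.jU : pt (D.U σ) ⟶ X := (exists_jU D σ).choose

theorem Rep.V_jU (m : ℕ) (hm : m ≤ n) :
    D.V (D.jU σ) m = (D.L (D.U σ)).chartV σ ((lkOf f g s hI).cU σ) m := (exists_jU D σ).choose_spec m hm

/-- The chart coordinates of a point of the chart. -/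
theorem Rep.coords {A : CommAlgCat.{u} R} (φ : D.U σ ⟶ A) :
    (∀ m ≤ n, IsUnit ((D.L A).delta σ (φ.hom.toRingHom ∘ (lkOf f g s hI).cU σ) m)) ∧
      ∀ m ≤ n, D.V (ptMap φ ≫ D.jU σ) m = (D.L A).chartV σ (φ.hom.toRingHom ∘ (lkOf f g s hI).cU σ) m := by
  refine ⟨fun m hm => ?_, fun m hm => ?_⟩
  · show IsUnit (((lkOf f g s hI).at' A).delta σ _ m)
    rw [← Lk.at_map (lkOf f g s hI) φ.hom, Lk.delta_map]
    exact ((lkOf f g s hI).isUnit_cU σ m hm).map φ.hom.toRingHom
  · rw [D.V_ptMap, D.V_jU σ m hm]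
    show _ = ((lkOf f g s hI).at' A).chartV σ _ m
    rw [← Lk.at_map (lkOf f g s hI) φ.hom, Lk.chartV_map]

theorem Rep.inC_comp {A : CommAlgCat.{u} R} (h : pt A ⟶ pt (D.U σ)) : D.InC σ (h ≫ D.jU σ) := by
  obtain ⟨φ, hφ⟩ := exists_algHom h
  obtain rfl : h = ptMap φ := Over.OverMorphism.ext hφ
  exact ⟨_, (D.coords σ φ).1, (D.coords σ φ).2⟩

theorem Rep.exists_factor {A : CommAlgCat.{u} R} (p : pt A ⟶ X) (hp : D.InC σ p) :
    ∃ h : pt A ⟶ pt (D.U σ), h ≫ D.jU σ = p := by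
  obtain ⟨c, hu, hc⟩ := hp
  let ψ : PolyC R σ →ₐ[R] A := MvPolynomial.aeval c
  have hΔ : IsUnit (ψ ((lkOf f g s hI).Delta σ)) := by
    rw [Lk.Delta, map_prod]
    refine IsUnit.prod_iff.2 fun m hm => ?_
    have h := Lk.delta_map ((lkOf f g s hI).at' (PolyC R σ)) σ ψ.toRingHom MvPolynomial.X m
    rw [Lk.at_map, show ψ.toRingHom ∘ MvPolynomial.X = c from funext fun i => MvPolynomial.aeval_X c i] at h
    show IsUnit (ψ.toRingHom _)
    rw [← h]
    exact hu m (Nat.le_of_lt_succ (Finset.mem_range.1 hm))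
  have hpow : ∀ y : Submonoid.powers ((lkOf f g s hI).Delta σ), IsUnit (ψ y) := by
    rintro ⟨_, k, rfl⟩
    rw [map_pow]
    exact hΔ.pow k
  let φ : D.U σ ⟶ A := CommAlgCat.ofHom (IsLocalization.liftAlgHom (f := ψ) hpow :
    Localization.Away ((lkOf f g s hI).Delta σ) →ₐ[R] A)
  refine ⟨ptMap φ, D.ext fun m hm => ?_⟩
  rw [(D.coords σ φ).2 m hm, hc m hm]
  congr 1
  funext i
  show (IsLocalization.liftAlgHom (f := ψ) hpow :
    Localization.Away ((lkOf f g s hI).Delta σ) →ₐ[R] A) (algebraMap (PolyC R σ) _ (MvPolynomial.X i)) = c i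
  rw [IsLocalization.liftAlgHom_apply, IsLocalization.lift_eq]
  exact MvPolynomial.aeval_X c i

theorem Rep.jU_mono {A : CommAlgCat.{u} R} (h h' : pt A ⟶ pt (D.U σ)) (e : h ≫ D.jU σ = h' ≫ D.jU σ) : h = h' := by
  obtain ⟨φ, hφ⟩ := exists_algHom h
  obtain rfl : h = ptMap φ := Over.OverMorphism.ext hφ
  obtain ⟨φ', hφ'⟩ := exists_algHom h'
  obtain rfl : h' = ptMap φ' := Over.OverMorphism.ext hφ'
  have hc : φ.hom.toRingHom ∘ (lkOf f g s hI).cU σ = φ'.hom.toRingHom ∘ (lkOf f g s hI).cU σ :=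
    (D.L A).chart_unique σ (D.coords σ φ').1 fun m hm => by
      rw [← (D.coords σ φ).2 m hm, ← (D.coords σ φ').2 m hm, e]
  have : φ = φ' := by
    refine CommAlgCat.hom_ext ?_
    let P := PolyC R σ
    let M : Submonoid P := Submonoid.powers ((lkOf f g s hI).Delta σ)
    have key : ∀ ψ ψ' : Localization M →ₐ[R] A,
        (∀ i, ψ (algebraMap P _ (MvPolynomial.X i)) = ψ' (algebraMap P _ (MvPolynomial.X i))) → ψ = ψ' :=
      fun ψ ψ' h => IsLocalization.algHom_ext M (MvPolynomial.algHom_ext h)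
    exact key φ.hom φ'.hom fun i => congrFun hc i
  rw [this]

theorem mono_jU : Mono (D.jU σ).left := by
  refine ⟨fun {T} a b hab => T.affineCover.hom_ext _ _ fun i => ?_⟩
  obtain ⟨A, θ, p, hp⟩ := exists_lift_affine (X := pt (D.U σ)) (T.affineCover.f i ≫ a)
  let p' : pt A ⟶ pt (D.U σ) := Over.homMk (θ.inv ≫ T.affineCover.f i ≫ b) (by
    rw [← Over.w (D.jU σ), Category.assoc, Category.assoc, ← reassoc_of% hab, ← reassoc_of% hp, Over.w (D.jU σ),
      θ.inv_hom_id_assoc, Over.w p])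
  have h := D.jU_mono σ p p' (Over.OverMorphism.ext (by
    show p.left ≫ (D.jU σ).left = (θ.inv ≫ T.affineCover.f i ≫ b) ≫ (D.jU σ).left
    rw [Category.assoc, Category.assoc, ← hab, ← reassoc_of% hp, θ.inv_hom_id_assoc]))
  rw [← hp, h]
  exact θ.hom_inv_id_assoc _

/-- Shrinking a spectrum so that an element becomes invertible. -/
theorem exists_loc {B : CommAlgCat.{u} R} {K : CommAlgCat.{u} R} (φ : B ⟶ K) (a : B) (ha : IsUnit (φ.hom a)) :
    ∃ (B' : CommAlgCat.{u} R) (ι : B ⟶ B') (φ' : B' ⟶ K), IsOpenImmersion (ptMap ι).left ∧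
      (∀ b, φ'.hom (ι.hom b) = φ.hom b) ∧ IsUnit (ι.hom a) := by
  let ι : B →ₐ[R] Localization.Away a := IsScalarTower.toAlgHom R B (Localization.Away a)
  have hpow : ∀ y : Submonoid.powers a, IsUnit (φ.hom y) := by
    rintro ⟨_, k, rfl⟩
    rw [map_pow]
    exact ha.pow k
  refine ⟨CommAlgCat.of R (Localization.Away a), CommAlgCat.ofHom ι,
    CommAlgCat.ofHom (IsLocalization.liftAlgHom (f := φ.hom) hpow : Localization.Away a →ₐ[R] K), ?_, fun b => ?_,
    IsLocalization.Away.algebraMap_isUnit a⟩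
  · exact (inferInstance : IsOpenImmersion (Spec.map (CommRingCat.ofHom (algebraMap B (Localization.Away a)))))
  · show (IsLocalization.liftAlgHom (f := φ.hom) hpow : Localization.Away a →ₐ[R] K) (algebraMap B _ b) = _
    rw [IsLocalization.liftAlgHom_apply, IsLocalization.lift_eq]
    rfl

/-- Around a point of the chart there is an open set mapping to the chart. -/
theorem exists_nhd (x : X.left) (hx : D.InC σ (kapPt X x)) :
    ∃ (W : X.left.Opens) (t : (W : Scheme.{u}) ⟶ (pt (D.U σ)).left), x ∈ W ∧ t ≫ (D.jU σ).left = W.ι := by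
  classical
  obtain ⟨O₁, hO₁, hxO, -⟩ := exists_isAffineOpen_mem_and_subset (U := ⊤) (show x ∈ (⊤ : X.left.Opens) from trivial)
  haveI : IsAffine O₁.toScheme := hO₁
  obtain ⟨B, θ, g₁, hg₁⟩ := exists_lift_affine (X := X) O₁.ι
  haveI : IsOpenImmersion g₁.left := by
    rw [show g₁.left = θ.inv ≫ O₁.ι by rw [← hg₁, θ.inv_hom_id_assoc]]
    infer_instance
  have hr : Set.range (kapPt X x).left ⊆ Set.range g₁.left := by
    rintro _ ⟨z, rfl⟩
    rw [kapPt_apply]
    refine ⟨θ.hom ⟨x, hxO⟩, ?_⟩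
    rw [← Scheme.Hom.comp_apply, hg₁]
    rfl
  let l : pt (kap X x) ⟶ pt B := Over.homMk (IsOpenImmersion.lift g₁.left (kapPt X x).left hr) (by
    rw [← Over.w g₁, ← Category.assoc, IsOpenImmersion.lift_fac]
    exact Over.w (kapPt X x))
  obtain ⟨φ, hφ⟩ := exists_algHom l
  have hl : ptMap φ ≫ g₁ = kapPt X x := by
    refine Over.OverMorphism.ext ?_
    show Spec.map (CommRingCat.ofHom φ.hom.toRingHom) ≫ g₁.left = _
    rw [← hφ]
    exact IsOpenImmersion.lift_fac _ _ _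
  obtain ⟨c₀, hu₀, hc₀⟩ := hx
  have hV : ∀ m, D.V (kapPt X x) m = push φ.hom.toRingHom (D.V g₁ m) := fun m => by rw [← hl, D.V_ptMap]
  have hsel : ∀ m, ∃ v : Fin r → Fin d → B, m ≤ n →
      (∀ q, v q ∈ D.V g₁ m) ∧ IsUnit (φ.hom (detJ (σ.J m) v)) := by
    intro m
    by_cases hm : m ≤ n
    swap
    · exact ⟨0, fun h => absurd h hm⟩
    have hr' : Module.finrank (kap X x) (D.V (kapPt X x) m) = r := by
      rw [hc₀ m hm]
      exact (finrank_span_eq_card (linearIndependent_of_detJ (hu₀ m hm))).trans (Fintype.card_fin r)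
    obtain ⟨w, hw, hspan, hli⟩ := Submodule.exists_fun_fin_finrank_span_eq (kap X x)
      ((fun v => φ.hom.toRingHom ∘ v) '' (D.V g₁ m : Set (Fin d → B)))
    have hrk : Module.finrank (kap X x) (Submodule.span (kap X x)
        ((fun v => φ.hom.toRingHom ∘ v) '' (D.V g₁ m : Set (Fin d → B)))) = r := by
      show Module.finrank (kap X x) (push φ.hom.toRingHom (D.V g₁ m)) = r
      rw [← hV]
      exact hr'
    choose v hv hv' using hw
    refine ⟨fun q => v (Fin.cast hrk.symm q), fun _ => ⟨fun q => hv _, ?_⟩⟩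
    show IsUnit (φ.hom.toRingHom _)
    rw [← detJ_map, isUnit_iff_ne_zero]
    intro h0
    obtain ⟨a, ha, haz⟩ := Matrix.exists_vecMul_eq_zero_iff.2 h0
    rw [← pr_sum] at haz
    have hz := eq_zero_of_pr (hu₀ m hm) (show _ ∈ Submodule.span _ _ from by
      rw [show Submodule.span (kap X x) (Set.range ((D.L (kap X x)).rows σ c₀ m)) = D.V (kapPt X x) m from
        (hc₀ m hm).symm, hV]
      exact Submodule.sum_mem _ fun q _ => Submodule.smul_mem _ _ (mem_push _ (hv _))) haz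
    refine ha (funext fun q => Fintype.linearIndependent_iff.1 (hli.comp _ (Fin.cast_injective hrk.symm)) a ?_ q)
    refine Eq.trans (Finset.sum_congr rfl fun q _ => ?_) hz
    rw [Function.comp_apply, ← hv']
  choose v hv using hsel
  let E : B := ∏ m ∈ Finset.range (n + 1), detJ (σ.J m) (v m)
  have hE : IsUnit (φ.hom E) := by
    rw [map_prod]
    exact IsUnit.prod_iff.2 fun m hm => (hv m (Nat.le_of_lt_succ (Finset.mem_range.1 hm))).2
  obtain ⟨B₁, ι₁, φ₁, hι₁, hφ₁, hE₁⟩ := exists_loc φ E hE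
  let g₂ := ptMap ι₁ ≫ g₁
  have hnorm : ∀ m, ∃ Y : Fin r → Fin d → B₁, m ≤ n →
      (∀ q, Y q ∈ D.V g₂ m) ∧ ∀ q, pr (σ.J m) (Y q) = Pi.single q 1 := by
    intro m
    by_cases hm : m ≤ n
    swap
    · exact ⟨0, fun h => absurd h hm⟩
    let w : Fin r → Fin d → B₁ := fun q => ι₁.hom.toRingHom ∘ v m q
    have hw : IsUnit (detJ (σ.J m) w) := by
      rw [detJ_map]
      exact isUnit_of_dvd_unit (map_dvd ι₁.hom.toRingHom
        (Finset.dvd_prod_of_mem (fun m => detJ (σ.J m) (v m)) (Finset.mem_range.2 (Nat.lt_succ_of_le hm)))) hE₁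
    haveI : Invertible (Matrix.of fun l i => w l (σ.J m i)) := Matrix.invertibleOfIsUnitDet _ hw
    refine ⟨fun q => ∑ l, (⅟ (Matrix.of fun l i => w l (σ.J m i))) q l • w l, fun _ => ⟨fun q => ?_, fun q => ?_⟩⟩
    · refine Submodule.sum_mem _ fun l _ => Submodule.smul_mem _ _ ?_
      show ι₁.hom.toRingHom ∘ v m l ∈ D.V g₂ m
      rw [D.V_ptMap]
      exact mem_push _ ((hv m hm).1 l)
    · rw [pr_sum]
      funext i
      show ((⅟ (Matrix.of fun l i => w l (σ.J m i))) * (Matrix.of fun l i => w l (σ.J m i))) q i = _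
      rw [invOf_mul_self, Matrix.one_apply, Pi.single_apply]
      simp [eq_comm]
  choose Y hY using hnorm
  let c : σ.Crd → B₁ := fun p => Y (σ.lv p.1) (σ.2.2 p.1) p.2.1
  have hvec : ∀ l, σ.vec c l = Y (σ.lv l) (σ.2.2 l) := fun l => by
    funext j
    by_cases hj : j ∈ Set.range (σ.J (σ.lv l))
    · obtain ⟨i, rfl⟩ := hj
      exact (congrFun (σ.pr_vec c l) i).trans (congrFun ((hY _ (σ.lv_le l)).2 (σ.2.2 l)) i).symm
    · rw [CD.vec, dif_neg hj]
  have hVK : ∀ m, D.V (kapPt X x) m = push φ₁.hom.toRingHom (D.V g₂ m) := fun m => by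
    rw [hV, D.V_ptMap, push_push]
    congr 1
    exact RingHom.ext fun b => (hφ₁ b).symm
  have hcK : φ₁.hom.toRingHom ∘ c = c₀ := by
    funext p
    obtain ⟨l, j, hj⟩ := p
    have hmem : σ.vec (φ₁.hom.toRingHom ∘ c) l ∈ D.V (kapPt X x) (σ.lv l) := by
      rw [σ.vec_map, hvec, hVK]
      exact mem_push _ ((hY _ (σ.lv_le l)).1 _)
    have h0 : σ.vec (φ₁.hom.toRingHom ∘ c) l - σ.vec c₀ l = 0 := eq_zero_of_pr (hu₀ _ (σ.lv_le l))
      (Submodule.sub_mem _ ((le_of_eq (hc₀ _ (σ.lv_le l))) hmem) ((D.L _).vec_mem_chartV σ c₀ l))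
      (by rw [map_sub, σ.pr_vec, σ.pr_vec, sub_self])
    have h1 := congrFun (sub_eq_zero.1 h0) j
    simp only [CD.vec, dif_neg hj] at h1
    exact h1
  let F : B₁ := ∏ m ∈ Finset.range (n + 1), (D.L B₁).delta σ c m
  have hF : IsUnit (φ₁.hom F) := by
    rw [map_prod]
    refine IsUnit.prod_iff.2 fun m hm => ?_
    have h := hu₀ m (Nat.le_of_lt_succ (Finset.mem_range.1 hm))
    rw [← hcK] at h
    change IsUnit (((lkOf f g s hI).at' (kap X x)).delta σ _ m) at h
    rw [← Lk.at_map (lkOf f g s hI) φ₁.hom, Lk.delta_map] at h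
    exact h
  obtain ⟨B₂, ι₂, φ₂, hι₂, hφ₂, hF₂⟩ := exists_loc φ₁ F hF
  let g₃ := ptMap ι₂ ≫ g₂
  have hin : D.InC σ g₃ := by
    have hu : ∀ m ≤ n, IsUnit ((D.L B₂).delta σ (ι₂.hom.toRingHom ∘ c) m) := fun m hm => by
      show IsUnit (((lkOf f g s hI).at' B₂).delta σ _ m)
      rw [← Lk.at_map (lkOf f g s hI) ι₂.hom, Lk.delta_map]
      exact isUnit_of_dvd_unit (map_dvd ι₂.hom.toRingHom
        (Finset.dvd_prod_of_mem _ (Finset.mem_range.2 (Nat.lt_succ_of_le hm)))) hF₂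
    refine ⟨_, hu, (D.L B₂).eq_chartV σ (D.linked g₃) (fun m _ => D.isGr g₃ m) (fun l => ?_) hu⟩
    rw [σ.vec_map, hvec, D.V_ptMap]
    exact mem_push _ ((hY _ (σ.lv_le l)).1 _)
  obtain ⟨h, hh⟩ := D.exists_factor σ g₃ hin
  haveI : IsOpenImmersion g₃.left := by
    show IsOpenImmersion ((ptMap ι₂).left ≫ (ptMap ι₁).left ≫ g₁.left)
    infer_instance
  refine ⟨g₃.left.opensRange, g₃.left.isoOpensRange.inv ≫ h.left, ?_, ?_⟩
  · obtain ⟨z⟩ : Nonempty (pt (kap X x)).left := inferInstanceAs (Nonempty (PrimeSpectrum (kap X x)))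
    refine ⟨(ptMap φ₂).left z, ?_⟩
    have e : ptMap φ₂ ≫ g₃ = kapPt X x := by
      refine D.ext fun m hm => ?_
      rw [hVK, D.V_ptMap, D.V_ptMap, push_push]
      congr 1
      exact RingHom.ext fun b => hφ₂ b
    refine Eq.trans ?_ (kapPt_apply x z)
    exact congrArg (fun q : pt (kap X x) ⟶ X => q.left z) e
  · rw [Category.assoc, show h.left ≫ (D.jU σ).left = g₃.left from congrArg CommaMorphism.left hh]
    exact g₃.left.isoOpensRange_inv_comp

/-- Chart membership descends along extensions of fields. -/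
theorem inChart_descend {K F : Type u} [Field K] [Field F] (L : Lk K d n) (φ : K →+* F)
    {V : ℕ → Submodule K (Fin d → K)} (hV : L.Linked V) (hgr : ∀ m ≤ n, IsGr (d - r) (V m))
    (h : (L.map φ).InChart σ fun m => push φ (V m)) : L.InChart σ V := by
  obtain ⟨c, hu, hc⟩ := h
  have hsurj : ∀ m ≤ n, ∀ w : Fin r → K, ∃ v ∈ V m, pr (σ.J m) v = w := by
    intro m hm w
    have hinj : Function.Injective ((pr (σ.J m)).domRestrict (V m)) := by
      rw [injective_iff_map_eq_zero]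
      rintro ⟨v, hv⟩ h0
      have h1 : φ ∘ v = 0 := eq_zero_of_pr (hu m hm) ((le_of_eq (hc m hm)) (mem_push φ hv))
        (funext fun i => (congrArg φ (congrFun h0 i)).trans (map_zero φ))
      exact Subtype.ext (funext fun j => φ.injective ((congrFun h1 j).trans (map_zero φ).symm))
    have hrk : Module.finrank K (V m) = r := by
      rw [← finrank_push φ (V m)]
      rw [show push φ (V m) = _ from hc m hm]
      exact (finrank_span_eq_card (linearIndependent_of_detJ (hu m hm))).trans (Fintype.card_fin r)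
    obtain ⟨v, hv⟩ := (LinearMap.injective_iff_surjective_of_finrank_eq_finrank
      (by rw [hrk, Module.finrank_fin_fun])).1 hinj w
    exact ⟨v.1, v.2, hv⟩
  choose v hv hv' using fun l : Fin r => hsurj (σ.lv l) (σ.lv_le l) (Pi.single (σ.2.2 l) 1)
  let c₀ : σ.Crd → K := fun p => v p.1 p.2.1
  have hvec : ∀ l, σ.vec c₀ l = v l := fun l => by
    funext j
    by_cases hj : j ∈ Set.range (σ.J (σ.lv l))
    · obtain ⟨i, rfl⟩ := hj
      exact (congrFun (σ.pr_vec c₀ l) i).trans (congrFun (hv' l) i).symm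
    · rw [CD.vec, dif_neg hj]
  have hc₀ : φ ∘ c₀ = c := by
    funext p
    obtain ⟨l, j, hj⟩ := p
    have h0 : σ.vec (φ ∘ c₀) l - σ.vec c l = 0 := eq_zero_of_pr (hu _ (σ.lv_le l))
      (Submodule.sub_mem _ ((le_of_eq (hc _ (σ.lv_le l))) (by rw [σ.vec_map, hvec]; exact mem_push φ (hv l)))
        ((L.map φ).vec_mem_chartV σ c l))
      (by rw [map_sub, σ.pr_vec, σ.pr_vec, sub_self])
    have h1 := congrFun (sub_eq_zero.1 h0) j
    simp only [CD.vec, dif_neg hj] at h1
    exact h1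
  have hu₀ : ∀ m ≤ n, IsUnit (L.delta σ c₀ m) := fun m hm => by
    have h := hu m hm
    rw [← hc₀, Lk.delta_map, isUnit_iff_ne_zero, ne_eq, map_eq_zero] at h
    exact isUnit_iff_ne_zero.2 h
  exact ⟨c₀, hu₀, L.eq_chartV σ hV hgr (fun l => (hvec l).symm ▸ hv l) hu₀⟩

/-- Being in a chart only depends on the image point. -/
theorem inC_kapPt (K : Type u) [Field K] [Algebra R K] (p : pt (CommAlgCat.of R K) ⟶ X) (hp : D.InC σ p)
    (z : (pt (CommAlgCat.of R K)).left) : D.InC σ (kapPt X (p.left z)) := by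
  obtain ⟨φ, hφ⟩ := exists_kap_hom K p z
  obtain ⟨c, hu, hc⟩ := hp
  refine inChart_descend σ (D.L _) φ.hom.toRingHom (D.linked _) (fun m _ => D.isGr _ m) ?_
  show (((lkOf f g s hI).at' _).map φ.hom.toRingHom).InChart σ _
  rw [Lk.at_map]
  refine ⟨c, hu, fun m hm => ?_⟩
  rw [← hc m hm]
  conv_rhs => rw [hφ]
  exact (D.V_ptMap φ _ m).symm

theorem mem_range_jU_iff (x : X.left) : x ∈ Set.range (D.jU σ).left ↔ D.InC σ (kapPt X x) := by
  constructor
  · rintro ⟨u, rfl⟩
    let K := kap (pt (D.U σ)) u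
    let h : pt (CommAlgCat.of R K) ⟶ pt (D.U σ) := kapPt (pt (D.U σ)) u
    obtain ⟨z⟩ : Nonempty (pt (CommAlgCat.of R K)).left := inferInstanceAs (Nonempty (PrimeSpectrum K))
    have hz : (h ≫ D.jU σ).left z = (D.jU σ).left u :=
      congrArg (D.jU σ).left (kapPt_apply (X := pt (D.U σ)) u z)
    have h1 := inC_kapPt D σ K (h ≫ D.jU σ) (D.inC_comp σ h) z
    rw [hz] at h1
    exact h1
  · intro h
    obtain ⟨W, t, hxW, ht⟩ := exists_nhd D σ x h
    refine ⟨t ⟨x, hxW⟩, ?_⟩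
    rw [← Scheme.Hom.comp_apply, ht]
    rfl

/-- The chart is an open immersion. -/
theorem isOpenImmersion_jU : IsOpenImmersion (D.jU σ).left := by
  let j := (D.jU σ).left
  haveI := mono_jU D σ
  choose W t hxW ht using fun u => exists_nhd D σ (j u) ((mem_range_jU_iff D σ (j u)).1 ⟨u, rfl⟩)
  let O : X.left.Opens := ⨆ u, W u
  have hr : Set.range j ⊆ Set.range O.ι := by
    rintro _ ⟨u, rfl⟩
    rw [Scheme.Opens.range_ι]
    exact TopologicalSpace.Opens.mem_iSup.2 ⟨u, hxW u⟩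
  let j' := IsOpenImmersion.lift O.ι j hr
  have hj' : j' ≫ O.ι = j := IsOpenImmersion.lift_fac _ _ _
  haveI : Mono j' := by
    have : Mono (j' ≫ O.ι) := by rw [hj']; exact mono_jU D σ
    exact mono_of_mono j' O.ι
  have hiso : IsIso j' := by
    refine IsZariskiLocalAtTarget.of_iSup_eq_top (P := MorphismProperty.isomorphisms Scheme) (fun u => O.ι ⁻¹ᵁ W u)
      ?_ fun u => ?_
    · rw [← Scheme.Hom.preimage_iSup]
      exact Scheme.Opens.ι_preimage_self O
    · show IsIso (j' ∣_ (O.ι ⁻¹ᵁ W u))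
      let W' := O.ι ⁻¹ᵁ W u
      have hW' : Set.range (W'.ι ≫ O.ι) ⊆ Set.range (W u).ι := by
        rintro _ ⟨w, rfl⟩
        rw [Scheme.Opens.range_ι]
        exact w.2
      let a := IsOpenImmersion.lift (W u).ι (W'.ι ≫ O.ι) hW' ≫ t u
      have ha : a ≫ j' = W'.ι := by
        rw [← cancel_mono O.ι, Category.assoc, hj', Category.assoc, ht u, IsOpenImmersion.lift_fac]
      let sec := (isPullback_morphismRestrict j' W').lift (𝟙 _) a (by rw [Category.id_comp]; exact ha.symm)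
      haveI : Mono (j' ∣_ W') := ⟨fun {T} p q hpq => by
        rw [← cancel_mono (j' ⁻¹ᵁ W').ι, ← cancel_mono j', Category.assoc, Category.assoc, ← morphismRestrict_ι,
          reassoc_of% hpq]⟩
      haveI : IsSplitEpi (j' ∣_ W') := ⟨⟨sec, (isPullback_morphismRestrict j' W').lift_fst _ _ _⟩⟩
      exact isIso_of_mono_of_isSplitEpi (j' ∣_ W')
  show IsOpenImmersion j
  rw [← hj']
  infer_instance

end Groth.Agent.LinkGr22
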