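import Groth.Agent.LinkGr22.Basis
import Groth.Prelude.Def_W4c1limliniiiiLG
import Groth.Agent.GrassLib.SubGrass
import Groth.Agent.GrassLib.Functor
import Groth.Agent.GrassLib.PluckerOver
import Groth.Agent.RelVALib.ChowPn

/-!
# Existence of the linked Grassmannian

The closed-subscheme criterion is the argument of `GrassStable29` for an arbitrary condition with
obstruction ideals.
-/

set_option autoImplicit false
set_option linter.unusedSectionVars false
set_option backward.isDefEq.respectTransparency.types false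
set_option maxHeartbeats 1000000

universe u

open CategoryTheory CategoryTheory.Limits AlgebraicGeometry Opposite
open scoped TensorProduct
open Groth.Agent.GrassLib W4c1limliniiii

namespace Groth.Agent.LinkGr22

/-- The obstruction for a family of vectors to extend into a direct summand. -/
theorem exists_obst {A : Type u} [CommRing A] {d k : ℕ} {N : Submodule A (Fin d → A)} (hN : IsGr k N)
    (S : Set (Fin d → A)) :
    ∃ I : Ideal A, ∀ {B : Type u} [CommRing B] (φ : A →+* B), (∀ v ∈ S, φ ∘ v ∈ push φ N) ↔ ∀ a ∈ I, φ a = 0 := by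
  haveI := hN.2.1
  obtain ⟨σ, hσ⟩ := Module.projective_lifting_property N.mkQ LinearMap.id N.mkQ_surjective
  let e : (Fin d → A) →ₗ[A] (Fin d → A) := σ.comp N.mkQ
  have hker : ∀ v ∈ N, e v = 0 := fun v hv => by
    show σ (N.mkQ v) = 0
    rw [Submodule.mkQ_apply, (Submodule.Quotient.mk_eq_zero N).2 hv, map_zero]
  have hmem : ∀ v, v - e v ∈ N := fun v => by
    rw [← Submodule.Quotient.mk_eq_zero, Submodule.Quotient.mk_sub, sub_eq_zero]
    exact (LinearMap.congr_fun hσ (N.mkQ v)).symm
  refine ⟨Ideal.span {a | ∃ v ∈ S, ∃ j, e v j = a}, fun {B} _ φ => ?_⟩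
  let eB : (Fin d → B) →ₗ[B] (Fin d → B) := ((LinearMap.toMatrix' e).map φ).mulVecLin
  have heB : ∀ v, eB (φ ∘ v) = φ ∘ e v := fun v => funext fun j => by
    show Matrix.mulVec _ (φ ∘ v) j = φ (e v j)
    rw [← RingHom.map_mulVec, LinearMap.toMatrix'_mulVec]
  constructor
  · intro h a ha
    refine Submodule.span_induction (fun a ha => ?_) (map_zero φ) (fun a b _ _ ha hb => by rw [map_add, ha, hb, add_zero])
      (fun c a _ ha => by rw [smul_eq_mul, map_mul, ha, mul_zero]) ha
    obtain ⟨v, hv, j, rfl⟩ := ha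
    have hle : push φ N ≤ LinearMap.ker eB := Submodule.span_le.2 (by
      rintro _ ⟨w, hw, rfl⟩
      show eB (φ ∘ w) = 0
      rw [heB, hker w hw]
      exact funext fun _ => map_zero φ)
    have h1 : eB (φ ∘ v) = 0 := hle (h v hv)
    rw [heB] at h1
    exact congrFun h1 j
  · intro h v hv
    have h1 : φ ∘ v = φ ∘ (v - e v) := funext fun j => by
      show φ (v j) = φ (v j - e v j)
      rw [map_sub, h (e v j) (Ideal.subset_span ⟨v, hv, j, rfl⟩), sub_zero]
    rw [h1]
    exact mem_push φ (hmem v)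

theorem fA_comp {R A B : Type u} [CommRing R] [CommRing A] [Algebra R A] [CommRing B] [Algebra R B] {d : ℕ}
    (φ : A →ₐ[R] B) (f : (Fin d → R) →ₗ[R] (Fin d → R)) (v : Fin d → A) :
    fA f B (φ.toRingHom ∘ v) = φ.toRingHom ∘ fA f A v := funext fun j => by
  show Matrix.mulVec _ (φ.toRingHom ∘ v) j = φ.toRingHom (Matrix.mulVec _ v j)
  rw [RingHom.map_mulVec, Matrix.map_map,
    show (φ.toRingHom ∘ algebraMap R A : R → B) = algebraMap R B from funext fun c => φ.commutes c]

section Closed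

variable {R : Type u} [CommRing R] {X₁ : Over (Spec (CommRingCat.of R))}
  {P : ∀ A : CommAlgCat.{u} R, (pt A ⟶ X₁) → Prop}

/-- A condition on points cut out by ideals. -/
structure HasObst (P : ∀ A : CommAlgCat.{u} R, (pt A ⟶ X₁) → Prop) where
  I : ∀ {A : CommAlgCat.{u} R}, (pt A ⟶ X₁) → Ideal A
  spec : ∀ {A B : CommAlgCat.{u} R} (g : pt A ⟶ X₁) (φ : A ⟶ B) (g' : pt B ⟶ X₁),
    g'.left = Spec.map (CommRingCat.ofHom φ.hom.toRingHom) ≫ g.left → (P B g' ↔ ∀ a ∈ I g, φ.hom a = 0)

/-- Morphisms whose points satisfy the condition. -/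
def Good (P : ∀ A : CommAlgCat.{u} R, (pt A ⟶ X₁) → Prop) (T : Scheme.{u}) (x : T ⟶ X₁.left) : Prop :=
  ∀ (A : CommAlgCat.{u} R) (p : pt A ⟶ X₁) (b : (pt A).left ⟶ T), b ≫ x = p.left → P A p

variable (hob : HasObst P)

include hob in
theorem obst_iff {A : CommAlgCat.{u} R} (g : pt A ⟶ X₁) (T : Scheme.{u}) (y : T ⟶ (pt A).left) :
    Good P T (y ≫ g.left) ↔
      ∀ a ∈ hob.I g, y.appTop ((Scheme.ΓSpecIso (CommRingCat.of A)).inv a) = 0 := by
  have key : ∀ (B : CommAlgCat.{u} R) (p : pt B ⟶ X₁) (b : (pt B).left ⟶ T), b ≫ y ≫ g.left = p.left →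
      (P B p ↔ ∀ a ∈ hob.I g, (b ≫ y).appTop ((Scheme.ΓSpecIso (CommRingCat.of A)).inv a) = 0) := by
    intro B p b hb
    obtain ⟨ψ, hψ⟩ := Spec.map_surjective (b ≫ y)
    have hc : CommRingCat.ofHom (algebraMap R A) ≫ ψ = CommRingCat.ofHom (algebraMap R B) := by
      refine Spec.map_injective ?_
      rw [Spec.map_comp, hψ]
      refine Eq.trans ?_ (Over.w p)
      rw [← hb]
      simp only [Category.assoc]
      exact congrArg (fun r => b ≫ y ≫ r) (Over.w g).symm
    let φ : A ⟶ B := CommAlgCat.ofHom { ψ.hom with commutes' := fun r => ConcreteCategory.congr_hom hc r }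
    rw [hob.spec g φ p (by rw [← hb, ← Category.assoc, ← hψ]; rfl)]
    refine forall₂_congr fun a _ => ?_
    rw [← hψ, ← ConcreteCategory.comp_apply, ← Scheme.ΓSpecIso_inv_naturality, ConcreteCategory.comp_apply,
      map_eq_zero_iff _ (ConcreteCategory.bijective_of_isIso (Scheme.ΓSpecIso (CommRingCat.of B)).inv).1]
    rfl
  constructor
  · intro h a ha
    refine TopCat.Sheaf.eq_of_locally_eq' T.sheaf (fun i => (T.affineCover.f i).opensRange) ⊤
      (fun i => homOfLE le_top) (fun x _ => ?_) _ _ fun i => ?_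
    · exact TopologicalSpace.Opens.mem_iSup.2 ⟨T.affineCover.idx x, T.affineCover.covers x⟩
    obtain ⟨B, θ, p, hp⟩ := exists_lift_affine (X := X₁) (T.affineCover.f i ≫ y ≫ g.left)
    have h1 := (key B p (θ.inv ≫ T.affineCover.f i) (by rw [Category.assoc, ← hp, θ.inv_hom_id_assoc])).1
      (h B p (θ.inv ≫ T.affineCover.f i) (by rw [Category.assoc, ← hp, θ.inv_hom_id_assoc])) a ha
    rw [Category.assoc, Scheme.Hom.comp_appTop, CommRingCat.comp_apply] at h1
    have h2 := (congrArg (fun t => θ.hom.appTop t) h1).trans (map_zero θ.hom.appTop.hom)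
    simp only [← CommRingCat.comp_apply, ← Scheme.Hom.comp_appTop, θ.hom_inv_id, Category.assoc,
      θ.hom_inv_id_assoc] at h2
    rw [Scheme.Hom.comp_appTop, CommRingCat.comp_apply] at h2
    refine Eq.trans ?_ (map_zero _).symm
    exact res_eq_zero_of_appTop (T.affineCover.f i) _ le_rfl _ h2
  · intro h B p b hb
    refine (key B p b hb).2 fun a ha => ?_
    rw [Scheme.Hom.comp_appTop, CommRingCat.comp_apply, h a ha, map_zero]

include hob in
/-- A condition cut out by ideals defines a closed subscheme. -/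
theorem exists_closed :
    ∃ (Z : Over (Spec (CommRingCat.of R))) (j : Z ⟶ X₁), IsClosedImmersion j.left ∧
      ∀ (A : CommAlgCat.{u} R) (p : pt A ⟶ X₁), P A p ↔ ∃ z, z ≫ j = p := by
  classical
  have hpre : ∀ (T T' : Scheme.{u}) (t : T' ⟶ T) (x : T ⟶ X₁.left), Good P T x → Good P T' (t ≫ x) :=
    fun T T' t x h A p b hb => h A p (b ≫ t) (by rw [Category.assoc, hb])
  have hloc : ∀ (T : Scheme.{u}) (x : T ⟶ X₁.left) (𝒱 : Scheme.OpenCover.{u} T),
      (∀ i, Good P _ (𝒱.f i ≫ x)) → Good P T x := by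
    intro T x 𝒱 h A p b hb
    have h1 := obst_iff hob p (pt A).left (𝟙 _)
    rw [Category.id_comp] at h1
    refine (?_ : Good P (pt A).left p.left) A p (𝟙 _) (Category.id_comp _)
    refine h1.2 fun a ha => ?_
    refine TopCat.Sheaf.eq_of_locally_eq' (pt A).left.sheaf (fun i => b ⁻¹ᵁ (𝒱.f i).opensRange) ⊤
      (fun i => homOfLE le_top) (fun w _ => ?_) _ _ fun i => ?_
    · exact TopologicalSpace.Opens.mem_iSup.2 ⟨𝒱.idx (b w), 𝒱.covers (b w)⟩
    let W := b ⁻¹ᵁ (𝒱.f i).opensRange
    let l := IsOpenImmersion.lift (𝒱.f i) (W.ι ≫ b) (by rintro _ ⟨w, rfl⟩; exact w.2)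
    have hl : l ≫ 𝒱.f i = W.ι ≫ b := IsOpenImmersion.lift_fac _ _ _
    have h2 := (obst_iff hob p W.toScheme W.ι).1 (by
      have h3 := hpre _ _ l _ (h i)
      rwa [reassoc_of% hl, hb] at h3) a ha
    refine Eq.trans ?_ (map_zero _).symm
    exact res_eq_zero_of_appTop W.ι _ (by rw [Scheme.Opens.opensRange_ι]) _ h2
  let ι := X₁.left.affineCover.I₀
  obtain ⟨Z, j, hj, hZ⟩ := CohExch.LocalSub.exists_of_locally X₁.left (Good P) hpre @IsClosedImmersion hloc
    (fun i : ι => (X₁.left.affineCover.f i).opensRange) X₁.left.affineCover.isOpenCover_opensRange fun i => by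
      let U := (X₁.left.affineCover.f i).opensRange
      haveI : IsAffine U.toScheme := isAffineOpen_opensRange (X₁.left.affineCover.f i)
      obtain ⟨A, θ, g, hg⟩ := exists_lift_affine (X := X₁) U.ι
      let 𝔞 := hob.I g
      refine ⟨Spec (CommRingCat.of (A ⧸ 𝔞)), Spec.map (CommRingCat.ofHom (Ideal.Quotient.mk 𝔞)) ≫ θ.inv, ?_, ?_, ?_⟩
      · haveI := IsClosedImmersion.spec_of_surjective (CommRingCat.ofHom (Ideal.Quotient.mk 𝔞)) Ideal.Quotient.mk_surjective
        infer_instance
      · haveI := IsClosedImmersion.spec_of_surjective (CommRingCat.ofHom (Ideal.Quotient.mk 𝔞)) Ideal.Quotient.mk_surjective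
        infer_instance
      intro T x
      rw [← hg, ← Category.assoc, obst_iff hob g T (x ≫ θ.hom)]
      constructor
      · intro h
        let χ : A →+* Γ(T, ⊤) := (((Scheme.ΓSpecIso (CommRingCat.of A)).inv ≫ (x ≫ θ.hom).appTop)).hom
        let z : T ⟶ Spec (CommRingCat.of (A ⧸ 𝔞)) :=
          T.toSpecΓ ≫ Spec.map (CommRingCat.ofHom (Ideal.Quotient.lift 𝔞 χ h))
        refine ⟨z, ?_⟩
        rw [← cancel_mono θ.hom]
        simp only [z, Category.assoc, θ.inv_hom_id, Category.comp_id]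
        erw [Category.comp_id, ← Spec.map_comp]
        rw [← CommRingCat.ofHom_comp, Ideal.Quotient.lift_comp_mk]
        refine ext_to_Spec ?_
        simp only [χ, CommRingCat.ofHom_hom]
        congr 1
        show (T.toSpecΓ ≫ Spec.map ((Scheme.ΓSpecIso (CommRingCat.of A)).inv ≫ (x ≫ θ.hom).appTop)).appTop =
          (x ≫ θ.hom).appTop
        rw [Scheme.Hom.comp_appTop, Scheme.toSpecΓ_appTop, Scheme.ΓSpecIso_naturality, Iso.hom_inv_id_assoc]
      · rintro ⟨z, rfl⟩ a ha
        simp only [Category.assoc, θ.inv_hom_id, Category.comp_id]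
        rw [Scheme.Hom.comp_appTop, CommRingCat.comp_apply]
        have e : (Spec.map (CommRingCat.ofHom (Ideal.Quotient.mk 𝔞))).appTop
            ((Scheme.ΓSpecIso (CommRingCat.of A)).inv a) = 0 := by
          refine (ConcreteCategory.congr_hom (Scheme.ΓSpecIso_inv_naturality
            (CommRingCat.ofHom (Ideal.Quotient.mk 𝔞))) a).symm.trans ?_
          rw [ConcreteCategory.comp_apply]
          exact (congrArg _ (Ideal.Quotient.eq_zero_iff_mem.2 ha)).trans (map_zero _)
        exact (congrArg z.appTop e).trans (map_zero _)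
  let Z' : Over (Spec (CommRingCat.of R)) := Over.mk (j ≫ X₁.hom)
  refine ⟨Z', Over.homMk j rfl, hj, fun A p => ?_⟩
  constructor
  · intro h
    obtain ⟨z, hz⟩ := (hZ _ p.left).1 fun B p' b hb => by
      obtain ⟨ψ, hψ⟩ := Spec.map_surjective b
      have hc : CommRingCat.ofHom (algebraMap R A) ≫ ψ = CommRingCat.ofHom (algebraMap R B) := by
        refine Spec.map_injective ?_
        rw [Spec.map_comp, hψ]
        refine Eq.trans ?_ (Over.w p')
        rw [← hb, Category.assoc]
        exact congrArg (b ≫ ·) (Over.w p).symm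
      let φ : A ⟶ B := CommAlgCat.ofHom { ψ.hom with commutes' := fun r => ConcreteCategory.congr_hom hc r }
      refine (hob.spec p φ p' (by rw [← hb, ← hψ]; rfl)).2 fun a ha => ?_
      have h0 : (a : A) = 0 := (hob.spec p (𝟙 A) p (by simp)).1 h a ha
      rw [h0, map_zero]
    refine ⟨Over.homMk z ?_, Over.OverMorphism.ext hz⟩
    show z ≫ j ≫ X₁.hom = _
    rw [reassoc_of% hz]
    exact Over.w p
  · rintro ⟨z, rfl⟩
    exact (hZ _ _).2 ⟨z.left, rfl⟩ A _ (𝟙 _) (Category.id_comp _)

end Closed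

section Product

variable {R : Type u} [CommRing R] {d q : ℕ}

/-- Pairs of morphisms over the base are morphisms into the fibre product. -/
noncomputable def prodEquiv {S : Scheme.{u}} (X Y T : Over S) :
    (T ⟶ Over.mk (pullback.fst X.hom Y.hom ≫ X.hom)) ≃ (T ⟶ X) × (T ⟶ Y) where
  toFun h := (Over.homMk (h.left ≫ pullback.fst X.hom Y.hom) (by rw [Category.assoc]; exact Over.w h),
    Over.homMk (h.left ≫ pullback.snd X.hom Y.hom) (by
      rw [Category.assoc, ← pullback.condition]; exact Over.w h))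
  invFun p := Over.homMk (pullback.lift p.1.left p.2.left ((Over.w p.1).trans (Over.w p.2).symm)) (by
    show _ ≫ pullback.fst _ _ ≫ X.hom = _
    rw [pullback.lift_fst_assoc]
    exact Over.w p.1)
  left_inv h := Over.OverMorphism.ext (pullback.hom_ext (pullback.lift_fst _ _ _) (pullback.lift_snd _ _ _))
  right_inv p := Prod.ext (Over.OverMorphism.ext (pullback.lift_fst _ _ _))
    (Over.OverMorphism.ext (pullback.lift_snd _ _ _))

/-- The product of several Grassmannians. -/
theorem exists_prod (hq : q ≤ d) (m : ℕ) :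
    ∃ (P : Over (Spec (CommRingCat.of R)))
      (e : ∀ A : CommAlgCat.{u} R, (pt A ⟶ P) ≃ (Fin m → Module.Grassmannian A (A ⊗[R] (Fin d → R)) q)),
      (∀ (A B : CommAlgCat.{u} R) (φ : A ⟶ B) (g : pt A ⟶ P) (g' : pt B ⟶ P),
        g'.left = Spec.map (CommRingCat.ofHom φ.hom.toRingHom) ≫ g.left →
          ∀ i, e B g' i = Module.Grassmannian.map φ.hom (e A g i)) ∧ IsProper P.hom := by
  induction m with
  | zero =>
    refine ⟨Over.mk (𝟙 _), fun A => ?_, fun A B φ g g' _ i => i.elim0, inferInstanceAs (IsProper (𝟙 _))⟩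
    exact
      { toFun := fun _ i => i.elim0
        invFun := fun _ => Over.homMk (pt A).hom (Category.comp_id _)
        left_inv := fun h => Over.OverMorphism.ext ((Over.w h).symm.trans (Category.comp_id _))
        right_inv := fun _ => funext fun i => i.elim0 }
  | succ m ih =>
    obtain ⟨P, e, he, hP⟩ := ih
    obtain ⟨c, hc, hc'⟩ := exists_closedImmersion_GrOver (R := R) (n := d) (q := q) hq
    haveI : IsProper (GrOver d q R).hom := RelVALib.IsPnClosed.isProper ⟨_, c, hc, hc'⟩
    haveI := hP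
    refine ⟨Over.mk (pullback.fst (GrOver d q R).hom P.hom ≫ (GrOver d q R).hom),
      fun A => (prodEquiv (GrOver d q R) P (pt A)).trans
        ((Equiv.prodCongr (repFree d q R A) (e A)).trans
          (Fin.consEquiv fun _ : Fin (m + 1) => Module.Grassmannian A (A ⊗[R] (Fin d → R)) q)), ?_, ?_⟩
    · intro A B φ g g' h i
      refine Fin.cases ?_ (fun j => ?_) i
      · exact repFree_natural A B φ _ ((prodEquiv _ _ _ g').1) (by
          show g'.left ≫ _ = _ ≫ g.left ≫ _
          rw [h, Category.assoc])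
      · exact he A B φ _ ((prodEquiv _ _ _ g').2) (by
          show g'.left ≫ _ = _ ≫ g.left ≫ _
          rw [h, Category.assoc]) j
    · show IsProper (pullback.fst (GrOver d q R).hom P.hom ≫ (GrOver d q R).hom)
      infer_instance

end Product

/-- The linked Grassmannian exists and is proper. -/
theorem exists_linked (R : Type u) [CommRing R] (d r n : ℕ) (f g : Fin n → ((Fin d → R) →ₗ[R] (Fin d → R))) :
    ∃ (X : Over (Spec (CommRingCat.of R))) (e : ∀ A : CommAlgCat.{u} R, (pt A ⟶ X) ≃ LGPoints R d r n f g A),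
      (∀ (A B : CommAlgCat.{u} R) (φ : A ⟶ B) (x : pt A ⟶ X) (x' : pt B ⟶ X),
        x'.left = Spec.map (CommRingCat.ofHom φ.hom.toRingHom) ≫ x.left →
          ∀ i, (e B x').1 i = Module.Grassmannian.map φ.hom ((e A x).1 i)) ∧ IsProper X.hom := by
  obtain ⟨P, e, he, hP⟩ := exists_prod (R := R) (d := d) (q := d - r) (Nat.sub_le d r) (n + 1)
  let C : ∀ A : CommAlgCat.{u} R, (pt A ⟶ P) → Prop := fun A p => e A p ∈ LGPoints R d r n f g A
  have hC : ∀ {A : CommAlgCat.{u} R} (p : pt A ⟶ P), ∃ I : Ideal A, ∀ {B : CommAlgCat.{u} R} (φ : A ⟶ B)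
      (p' : pt B ⟶ P), p'.left = Spec.map (CommRingCat.ofHom φ.hom.toRingHom) ≫ p.left →
        (C B p' ↔ ∀ a ∈ I, φ.hom a = 0) := by
    intro A p
    choose I hI using fun i : Fin n => exists_obst (isGr_co (e A p i.succ))
      (Submodule.map (fA (f i) A) (co (e A p i.castSucc)) : Set (Fin d → A))
    choose J hJ using fun i : Fin n => exists_obst (isGr_co (e A p i.castSucc))
      (Submodule.map (fA (g i) A) (co (e A p i.succ)) : Set (Fin d → A))
    refine ⟨(⨆ i, I i) ⊔ (⨆ i, J i), fun {B} φ p' h => ?_⟩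
    have key : ∀ (T : (Fin d → R) →ₗ[R] (Fin d → R)) (N N' : Module.Grassmannian A (A ⊗[R] (Fin d → R)) (d - r)),
        (Submodule.map (T.baseChange B) (Module.Grassmannian.map φ.hom N).toSubmodule ≤
            (Module.Grassmannian.map φ.hom N').toSubmodule ↔
          ∀ v ∈ (Submodule.map (fA T A) (co N) : Set (Fin d → A)),
            φ.hom.toRingHom ∘ v ∈ push φ.hom.toRingHom (co N')) := by
      intro T N N'
      rw [map_baseChange_le_iff, co_map, co_map]
      constructor
      · rintro h _ ⟨w, hw, rfl⟩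
        rw [← fA_comp]
        exact h ⟨_, mem_push _ hw, rfl⟩
      · intro h
        rw [Submodule.map_le_iff_le_comap]
        refine Submodule.span_le.2 ?_
        rintro _ ⟨w, hw, rfl⟩
        rw [SetLike.mem_coe, Submodule.mem_comap, fA_comp]
        exact h _ ⟨w, hw, rfl⟩
    show e B p' ∈ LGPoints R d r n f g B ↔ _
    rw [show (∀ a ∈ (⨆ i, I i) ⊔ (⨆ i, J i), φ.hom a = 0) ↔ (⨆ i, I i) ⊔ (⨆ i, J i) ≤ RingHom.ker φ.hom.toRingHom
      from Iff.rfl, sup_le_iff, iSup_le_iff, iSup_le_iff, ← forall_and]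
    refine forall_congr' fun i => ?_
    rw [he A B φ p p' h, he A B φ p p' h, key, key]
    exact and_congr (hI i φ.hom.toRingHom) (hJ i φ.hom.toRingHom)
  choose I hI using @hC
  obtain ⟨Z, j, hj, hZ⟩ := exists_closed (P := C) ⟨fun p => I p, fun p => hI p⟩
  haveI := hj
  haveI := hP
  haveI : Mono j := Over.mono_of_mono_left j
  let E : ∀ A : CommAlgCat.{u} R, (pt A ⟶ Z) ≃ LGPoints R d r n f g A := fun A =>
    Equiv.ofBijective (fun z => ⟨e A (z ≫ j), (hZ A _).2 ⟨z, rfl⟩⟩)
      ⟨fun z z' h => (cancel_mono j).1 ((e A).injective (congrArg Subtype.val h)), fun V => by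
        obtain ⟨z, hz⟩ := (hZ A ((e A).symm V.1)).1 (by
          show e A ((e A).symm V.1) ∈ _
          rw [Equiv.apply_symm_apply]
          exact V.2)
        exact ⟨z, Subtype.ext (by show e A (z ≫ j) = _; rw [hz, Equiv.apply_symm_apply])⟩⟩
  refine ⟨Z, E, fun A B φ x x' h i => he A B φ (x ≫ j) (x' ≫ j) (by simp [h]) i, ?_⟩
  rw [← Over.w j]
  infer_instance

end Groth.Agent.LinkGr22
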