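import Groth.Agent.LinkGr22.Chain
import Mathlib.RingTheory.PowerSeries.Inverse
import Mathlib.LinearAlgebra.Dual.Lemmas

/-!
# Linked sub-bundles over fields: ranks, charts at exact points, deformations
-/

set_option autoImplicit false
set_option linter.unusedSectionVars false
set_option linter.style.haveILetI false

universe u

namespace Groth.Agent.LinkGr22

variable {K : Type u} [Field K] {d r n : ℕ}

theorem finrank_eq_of_isGr {N : Submodule K (Fin d → K)} (hr : r ≤ d) (h : IsGr (d - r) N) :
    Module.finrank K N = r := by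
  have h1 := h.2.2 ⟨⊥, Ideal.isPrime_bot⟩
  rw [Module.rankAtStalk_eq_finrank_of_free, Pi.natCast_def] at h1
  have h2 := Submodule.finrank_quotient_add_finrank N
  rw [Module.finrank_fin_fun] at h2
  simp only [Nat.cast_id] at h1
  omega

theorem exists_J {Y : Fin r → Fin d → K} (h : LinearIndependent K Y) :
    ∃ J : Fin r → Fin d, Function.Injective J ∧ IsUnit (detJ J Y) := by
  classical
  let col : Fin d → Fin r → K := fun j l => Y l j
  have htop : Submodule.span K (Set.range col) = ⊤ := by
    by_contra hne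
    obtain ⟨φ, hφ, hle⟩ := Submodule.exists_le_ker_of_lt_top _ (lt_top_iff_ne_top.2 hne)
    refine hφ (LinearMap.pi_ext' fun l => LinearMap.ext_ring ?_)
    have h0 : (∑ l, φ (Pi.single l 1) • Y l) = 0 := funext fun j => by
      have h1 : φ (col j) = 0 := hle (Submodule.subset_span ⟨j, rfl⟩)
      rw [LinearMap.pi_apply_eq_sum_univ φ (col j)] at h1
      refine Eq.trans ?_ h1
      simp only [Finset.sum_apply, Pi.smul_apply, smul_eq_mul, col]
      exact Finset.sum_congr rfl fun l _ => (mul_comm _ _).trans (by congr 2; funext j'; simp [Pi.single_apply, eq_comm])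
    exact (Fintype.linearIndependent_iff.1 h _ h0 l).trans (LinearMap.zero_apply _).symm
  obtain ⟨f, hf, -, hli⟩ := Submodule.exists_fun_fin_finrank_span_eq K (Set.range col)
  have hr : Module.finrank K (Submodule.span K (Set.range col)) = r := by
    rw [htop, finrank_top, Module.finrank_fin_fun]
  choose J hJ using hf
  refine ⟨fun i => J (Fin.cast hr.symm i), fun a b hab => ?_, ?_⟩
  · have hab' : J (Fin.cast hr.symm a) = J (Fin.cast hr.symm b) := hab
    have h1 : f (Fin.cast hr.symm a) = f (Fin.cast hr.symm b) := by rw [← hJ, ← hJ, hab']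
    exact Fin.cast_injective _ (hli.injective h1)
  · have h2 : LinearIndependent K (fun i : Fin r => col (J (Fin.cast hr.symm i))) := by
      rw [show (fun i : Fin r => col (J (Fin.cast hr.symm i))) = f ∘ Fin.cast hr.symm from funext fun i => hJ _]
      exact hli.comp _ (Fin.cast_injective _)
    exact (Matrix.isUnit_iff_isUnit_det _).1 ((Matrix.linearIndependent_cols_iff_isUnit
      (A := Matrix.of fun l i => Y l (J (Fin.cast hr.symm i)))).1 h2)

theorem exists_rows {N : Submodule K (Fin d → K)} {p : ℕ} (hN : Module.finrank K N = p) :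
    ∃ (Y : Fin p → Fin d → K) (J : Fin p → Fin d), Function.Injective J ∧ IsUnit (detJ J Y) ∧
      Submodule.span K (Set.range Y) = N := by
  let b := Module.finBasisOfFinrankEq K N hN
  have hli : LinearIndependent K (fun l => (b l : Fin d → K)) := b.linearIndependent.map' N.subtype N.ker_subtype
  obtain ⟨J, hJ, hu⟩ := exists_J hli
  refine ⟨_, J, hJ, hu, ?_⟩
  rw [show (fun l => (b l : Fin d → K)) = N.subtype ∘ b from rfl, Set.range_comp, Submodule.span_image, b.span_eq,
    Submodule.map_top, Submodule.range_subtype]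

/-- Semicontinuity of the dimension. -/
theorem finrank_push_le {A F : Type u} [CommRing A] [Field F] (π : A →+* K) (hπ : Function.Surjective π)
    (ι : A →+* F) (hι : Function.Injective ι) (N : Submodule A (Fin d → A)) :
    Module.finrank K (push π N) ≤ Module.finrank F (push ι N) := by
  obtain ⟨Y, J, -, hu, hY⟩ := exists_rows (N := push π N) rfl
  have himg : ∀ v ∈ push π N, ∃ w ∈ N, π ∘ w = v := fun v hv => by
    induction hv using Submodule.span_induction with
    | mem v hv => exact hv
    | zero => exact ⟨0, N.zero_mem, funext fun _ => map_zero π⟩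
    | add v w _ _ h1 h2 =>
      obtain ⟨a, ha, rfl⟩ := h1
      obtain ⟨b, hb, rfl⟩ := h2
      exact ⟨a + b, N.add_mem ha hb, comp_add' π a b⟩
    | smul c v _ h1 =>
      obtain ⟨a, ha, rfl⟩ := h1
      obtain ⟨c, rfl⟩ := hπ c
      exact ⟨c • a, N.smul_mem c ha, comp_smul π c a⟩
  choose w hw hw' using fun l => himg (Y l) (hY ▸ Submodule.subset_span ⟨l, rfl⟩)
  have h1 : π (detJ J w) = detJ J Y := by
    rw [← detJ_map]
    exact congrArg (detJ J) (funext hw')
  have h2 : IsUnit (detJ J fun l => ι ∘ w l) := by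
    rw [detJ_map, isUnit_iff_ne_zero, map_ne_zero_iff ι hι]
    intro h0
    rw [h0, map_zero] at h1
    exact hu.ne_zero h1.symm
  calc Module.finrank K (push π N)
      = Module.finrank F (Submodule.span F (Set.range fun l => ι ∘ w l)) :=
        ((finrank_span_eq_card (linearIndependent_of_detJ h2)).trans (Fintype.card_fin _)).symm
    _ ≤ Module.finrank F (push ι N) := Submodule.finrank_mono (Submodule.span_le.2 (by
        rintro _ ⟨l, rfl⟩
        exact mem_push ι (hw l)))

/-- Dimensions do not change under extension of fields. -/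
theorem finrank_push {F : Type u} [Field F] (φ : K →+* F) (N : Submodule K (Fin d → K)) :
    Module.finrank F (push φ N) = Module.finrank K N := by
  refine le_antisymm ?_ ?_
  · obtain ⟨Y, J, -, -, hY⟩ := exists_rows (N := N) rfl
    conv_lhs => rw [← hY, push_range]
    exact (finrank_range_le_card _).trans (le_of_eq (Fintype.card_fin _))
  · have h := finrank_push_le (RingHom.id K) Function.surjective_id φ φ.injective N
    rwa [push_id] at h

namespace Lk

/-- The rank of `f i` on a family. -/
noncomputable def pRk (L : Lk K d n) (V : ℕ → Submodule K (Fin d → K)) (i : ℕ) : ℕ :=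
  Module.finrank K (Submodule.map (L.f i) (V i))

/-- The rank of `g i` on a family. -/
noncomputable def qRk (L : Lk K d n) (V : ℕ → Submodule K (Fin d → K)) (i : ℕ) : ℕ :=
  Module.finrank K (Submodule.map (L.g i) (V (i + 1)))

/-- A point of the linked Grassmannian. -/
def IsPt (L : Lk K d n) (r : ℕ) (V : ℕ → Submodule K (Fin d → K)) : Prop :=
  L.Linked V ∧ ∀ m ≤ n, Module.finrank K (V m) = r

/-- The hypotheses on the chain. -/
def Nice (L : Lk K d n) : Prop :=
  L.s = 0 → (∀ i < n, LinearMap.ker (L.g i) ≤ LinearMap.range (L.f i) ∧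
      LinearMap.ker (L.f i) ≤ LinearMap.range (L.g i)) ∧
    ∀ i, i + 1 < n → LinearMap.range (L.f i) ⊓ LinearMap.ker (L.f (i + 1)) = ⊥ ∧
      LinearMap.range (L.g (i + 1)) ⊓ LinearMap.ker (L.g i) = ⊥

theorem rk_add_ker {f : (Fin d → K) →ₗ[K] (Fin d → K)} (N : Submodule K (Fin d → K)) :
    Module.finrank K (Submodule.map f N) + Module.finrank K (LinearMap.ker f ⊓ N : Submodule K (Fin d → K)) =
      Module.finrank K N := by
  have h := LinearMap.finrank_range_add_finrank_ker (f.domRestrict N)
  have h1 : LinearMap.range (f.domRestrict N) = Submodule.map f N := by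
    rw [LinearMap.domRestrict, LinearMap.range_comp, Submodule.range_subtype]
  have h2 : Submodule.map N.subtype (LinearMap.ker (f.domRestrict N)) = LinearMap.ker f ⊓ N := by
    rw [LinearMap.domRestrict, LinearMap.ker_comp, Submodule.map_comap_subtype, inf_comm]
  rw [h1, (Submodule.equivMapOfInjective _ N.injective_subtype (LinearMap.ker (f.domRestrict N))).finrank_eq, h2] at h
  exact h

variable {L : Lk K d n} {V : ℕ → Submodule K (Fin d → K)}

theorem map_g_le (hs : L.s = 0) (hV : L.Linked V) {i : ℕ} (hi : i < n) :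
    Submodule.map (L.g i) (V (i + 1)) ≤ LinearMap.ker (L.f i) ⊓ V i :=
  le_inf (by rintro _ ⟨v, -, rfl⟩; rw [LinearMap.mem_ker, L.hfg i hi, hs, zero_smul]) (hV i hi).2

theorem map_f_le (hs : L.s = 0) (hV : L.Linked V) {i : ℕ} (hi : i < n) :
    Submodule.map (L.f i) (V i) ≤ LinearMap.ker (L.g i) ⊓ V (i + 1) :=
  le_inf (by rintro _ ⟨v, -, rfl⟩; rw [LinearMap.mem_ker, L.hgf i hi, hs, zero_smul]) (hV i hi).1

theorem rk_le (hs : L.s = 0) (hV : L.IsPt r V) {i : ℕ} (hi : i < n) : L.pRk V i + L.qRk V i ≤ r := by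
  have h1 := rk_add_ker (f := L.f i) (V i)
  have h2 := Submodule.finrank_mono (map_g_le hs hV.1 hi)
  rw [hV.2 i (by omega)] at h1
  simp only [pRk, qRk]
  omega

theorem eq_of_rk {i : ℕ} (hs : L.s = 0) (hV : L.IsPt r V) (hi : i < n) (h : L.pRk V i + L.qRk V i = r) :
    LinearMap.ker (L.g i) ⊓ V (i + 1) ≤ Submodule.map (L.f i) (V i) ∧
      LinearMap.ker (L.f i) ⊓ V i ≤ Submodule.map (L.g i) (V (i + 1)) := by
  have h1 := rk_add_ker (f := L.f i) (V i)
  have h2 := rk_add_ker (f := L.g i) (V (i + 1))
  rw [hV.2 i (by omega)] at h1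
  rw [hV.2 (i + 1) (by omega)] at h2
  simp only [pRk, qRk] at h
  exact ⟨(Submodule.eq_of_le_of_finrank_le (map_f_le hs hV.1 hi) (by omega)).ge,
    (Submodule.eq_of_le_of_finrank_le (map_g_le hs hV.1 hi) (by omega)).ge⟩

theorem exact_iff (hs : L.s = 0) (hV : L.IsPt r V) :
    L.Exact V ↔ ∀ i < n, L.pRk V i + L.qRk V i = r := by
  refine ⟨fun h i hi => ?_, fun h i hi => eq_of_rk hs hV hi (h i hi)⟩
  have h1 := rk_add_ker (f := L.f i) (V i)
  rw [hV.2 i (by omega), (le_antisymm (h i hi).2 (map_g_le hs hV.1 hi))] at h1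
  exact h1

theorem exact_of_ne_zero (hs : L.s ≠ 0) (V : ℕ → Submodule K (Fin d → K)) : L.Exact V := fun i hi => by
  refine ⟨?_, ?_⟩ <;> rintro v ⟨h, -⟩
  · have h1 := L.hfg i hi v
    rw [show L.g i v = 0 from h, map_zero, eq_comm, smul_eq_zero] at h1
    rw [h1.resolve_left hs]; exact zero_mem _
  · have h1 := L.hgf i hi v
    rw [show L.f i v = 0 from h, map_zero, eq_comm, smul_eq_zero] at h1
    rw [h1.resolve_left hs]; exact zero_mem _

/-- A functional factors through a map with smaller kernel. -/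
theorem exists_factor {M N : Type u} [AddCommGroup M] [Module K M] [AddCommGroup N] [Module K N]
    (T : M →ₗ[K] N) (S : M →ₗ[K] K) (h : LinearMap.ker T ≤ LinearMap.ker S) : ∃ φ : N →ₗ[K] K, φ.comp T = S := by
  obtain ⟨φ, hφ⟩ := LinearMap.exists_extend
    (((LinearMap.ker T).liftQ S h).comp T.quotKerEquivRange.symm.toLinearMap)
  refine ⟨φ, LinearMap.ext fun m => ?_⟩
  have h1 := LinearMap.congr_fun hφ (⟨T m, m, rfl⟩ : LinearMap.range T)
  refine h1.trans ?_
  show (LinearMap.ker T).liftQ S h (T.quotKerEquivRange.symm ⟨T m, _⟩) = S m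
  rw [LinearMap.quotKerEquivRange_symm_apply_image]
  rfl

/-- The family of functionals steering the deformation. -/
theorem exists_phi (hs : L.s = 0) (hN : L.Nice) (hV : L.IsPt r V) {i : ℕ} (hi : i < n) {a : Fin d → K}
    (ha : a ∈ V i) (haf : L.f i a = 0) (hag : a ∉ Submodule.map (L.g i) (V (i + 1))) :
    ∃ φ : ℕ → ((Fin d → K) →ₗ[K] K), φ i a = 1 ∧ (∀ m, i < m → φ m = 0) ∧
      (∀ v ∈ V (i + 1), φ i (L.g i v) = 0) ∧
      (∀ m, m < i → ∀ v ∈ V (m + 1), φ m (L.g m v) = φ (m + 1) v) ∧
      (∀ m, m < i → ∀ v ∈ V m, φ (m + 1) (L.f m v) = 0) := by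
  classical
  let Kl : ℕ → Submodule K (Fin d → K) := fun m =>
    if m = 0 then ⊥ else LinearMap.ker (L.g (m - 1)) ⊓ V m
  have hKl : ∀ m, m < n → ∀ {v}, v ∈ Submodule.map (L.g m) (V (m + 1)) → v ∈ Kl m → v = 0 := by
    intro m hm v h1 h2
    obtain ⟨w, -, rfl⟩ := h1
    rcases m with _ | m
    · exact (Submodule.mem_bot K).1 h2
    · have h3 : L.g (m + 1) w ∈ LinearMap.range (L.g (m + 1)) ⊓ LinearMap.ker (L.g m) := ⟨⟨w, rfl⟩, h2.1⟩
      rw [((hN hs).2 m hm).2] at h3
      exact (Submodule.mem_bot K).1 h3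
  have htop : a ∉ Submodule.map (L.g i) (V (i + 1)) ⊔ Kl i := by
    intro hmem
    obtain ⟨x, hx, y, hy, hxy⟩ := Submodule.mem_sup.1 hmem
    have h0 : y = 0 := by
      rcases i with _ | j
      · exact (Submodule.mem_bot K).1 hy
      · have h1 : y ∈ LinearMap.range (L.f j) ⊓ LinearMap.ker (L.f (j + 1)) := by
          refine ⟨((hN hs).1 j (by omega)).1 hy.1, ?_⟩
          show L.f (j + 1) y = 0
          rw [eq_sub_of_add_eq' hxy, map_sub, haf]
          obtain ⟨w, -, rfl⟩ := hx
          rw [L.hfg _ hi, hs, zero_smul, sub_zero]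
        rw [((hN hs).2 j hi).1] at h1
        exact (Submodule.mem_bot K).1 h1
    rw [h0, add_zero] at hxy
    exact hag (hxy ▸ hx)
  obtain ⟨φ₀, hφ₀, hφ₀'⟩ := Submodule.exists_dual_map_eq_bot_of_notMem htop inferInstance
  have hφ₀z : ∀ v ∈ Submodule.map (L.g i) (V (i + 1)) ⊔ Kl i, φ₀ v = 0 := fun v hv => by
    have : φ₀ v ∈ Submodule.map φ₀ (Submodule.map (L.g i) (V (i + 1)) ⊔ Kl i) := ⟨v, hv, rfl⟩
    rwa [hφ₀', Submodule.mem_bot] at this
  suffices ∀ k, k ≤ i → ∃ φ : ℕ → ((Fin d → K) →ₗ[K] K), φ i a = 1 ∧ (∀ m, i < m → φ m = 0) ∧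
      (∀ v ∈ V (i + 1), φ i (L.g i v) = 0) ∧
      (∀ m, i - k ≤ m → m ≤ i → ∀ v ∈ Kl m, φ m v = 0) ∧
      (∀ m, i - k ≤ m → m < i → ∀ v ∈ V (m + 1), φ m (L.g m v) = φ (m + 1) v) by
    obtain ⟨φ, h1, h2, h3, h4, h5⟩ := this i le_rfl
    refine ⟨φ, h1, h2, h3, fun m hm => h5 m (by omega) hm, fun m hm v hv => h4 (m + 1) (by omega) (by omega) _ ?_⟩
    exact ⟨by rw [SetLike.mem_coe, LinearMap.mem_ker]; show L.g m (L.f m v) = 0; rw [L.hgf m (by omega), hs, zero_smul],
      (hV.1 m (by omega)).1 ⟨v, hv, rfl⟩⟩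
  intro k
  induction k with
  | zero =>
    intro _
    refine ⟨fun m => if m = i then (φ₀ a)⁻¹ • φ₀ else 0, by simp [inv_mul_cancel₀ hφ₀],
      fun m hm => if_neg (by omega), fun v hv => ?_, fun m h1 h2 v hv => ?_, fun m h1 h2 => by omega⟩
    · show (if i = i then (φ₀ a)⁻¹ • φ₀ else 0) (L.g i v) = 0
      rw [if_pos rfl, LinearMap.smul_apply, hφ₀z _ (Submodule.mem_sup_left ⟨v, hv, rfl⟩), smul_zero]
    · obtain rfl : m = i := by omega
      show (if m = m then (φ₀ a)⁻¹ • φ₀ else 0) v = 0
      rw [if_pos rfl, LinearMap.smul_apply, hφ₀z _ (Submodule.mem_sup_right hv), smul_zero]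
  | succ k ih =>
    intro hk
    obtain ⟨φ, h1, h2, h3, h4, h5⟩ := ih (by omega)
    let m₀ := i - (k + 1)
    have hm₀ : m₀ + 1 = i - k := by omega
    let T : (V (m₀ + 1) × Kl m₀) →ₗ[K] (Fin d → K) :=
      ((L.g m₀).comp (V (m₀ + 1)).subtype).coprod (Kl m₀).subtype
    let S : (V (m₀ + 1) × Kl m₀) →ₗ[K] K := ((φ (m₀ + 1)).comp (V (m₀ + 1)).subtype).coprod 0
    obtain ⟨ψ, hψ⟩ := exists_factor T S fun p hp => by
      have hp' : L.g m₀ p.1.1 + p.2.1 = 0 := hp
      have hz : L.g m₀ p.1.1 = 0 := hKl m₀ (by omega) ⟨_, p.1.2, rfl⟩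
        (eq_neg_of_add_eq_zero_left hp' ▸ Submodule.neg_mem _ p.2.2)
      show φ (m₀ + 1) p.1.1 + 0 = 0
      rw [add_zero]
      refine h4 (m₀ + 1) (by omega) (by omega) _ ?_
      exact ⟨hz, p.1.2⟩
    refine ⟨Function.update φ m₀ ψ, by rw [Function.update_of_ne (by omega)]; exact h1,
      fun m hm => by rw [Function.update_of_ne (by omega)]; exact h2 m hm,
      fun v hv => by rw [Function.update_of_ne (by omega)]; exact h3 v hv, fun m hm1 hm2 v hv => ?_,
      fun m hm1 hm2 v hv => ?_⟩
    · rcases eq_or_ne m m₀ with rfl | hne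
      · rw [Function.update_self]
        have e := LinearMap.congr_fun hψ (0, ⟨v, hv⟩)
        simpa [T, S] using e
      · rw [Function.update_of_ne hne]
        exact h4 m (by omega) hm2 v hv
    · rcases eq_or_ne m m₀ with rfl | hne
      · rw [Function.update_self, Function.update_of_ne (by omega)]
        have e := LinearMap.congr_fun hψ (⟨v, hv⟩, 0)
        simpa [T, S] using e
      · rw [Function.update_of_ne hne, Function.update_of_ne (by omega)]
        exact h5 m (by omega) hm2 v hv

/-- A family over the power series with the given special member. -/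
def Fam (L : Lk K d n) (r : ℕ) (V : ℕ → Submodule K (Fin d → K)) (B : ℕ → Fin r → Fin d → PowerSeries K) : Prop :=
  (∀ m ≤ n, ∃ J : Fin r → Fin d, Function.Injective J ∧ IsUnit (detJ J (B m))) ∧
    (L.map PowerSeries.C).Linked (fun m => Submodule.span (PowerSeries K) (Set.range (B m))) ∧
    ∀ m ≤ n, push PowerSeries.constantCoeff (Submodule.span (PowerSeries K) (Set.range (B m))) = V m

/-- The passage to the general member. -/
noncomputable def toGen (K : Type u) [Field K] : K →+* FractionRing (PowerSeries K) :=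
  (algebraMap (PowerSeries K) (FractionRing (PowerSeries K))).comp PowerSeries.C

/-- The general member of a family. -/
noncomputable def gen (B : ℕ → Fin r → Fin d → PowerSeries K) (m : ℕ) :
    Submodule (FractionRing (PowerSeries K)) (Fin d → FractionRing (PowerSeries K)) :=
  push (algebraMap (PowerSeries K) (FractionRing (PowerSeries K))) (Submodule.span (PowerSeries K) (Set.range (B m)))

/-- Deforming a point where exactness fails at `i`, moving the levels up to `i`. -/
theorem deform_left (hs : L.s = 0) (hN : L.Nice) (hV : L.IsPt r V) {i : ℕ} (hi : i < n)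
    (hlt : L.pRk V i + L.qRk V i < r) :
    ∃ B : ℕ → Fin r → Fin d → PowerSeries K, Fam L r V B ∧ L.pRk V i + 1 ≤ (L.map (toGen K)).pRk (gen B) i ∧
      ∀ m, i < m → m ≤ n → gen B m = push (toGen K) (V m) := by
  classical
  have h1 := rk_add_ker (f := L.f i) (V i)
  have h2 := rk_add_ker (f := L.g i) (V (i + 1))
  rw [hV.2 i (by omega)] at h1
  rw [hV.2 (i + 1) (by omega)] at h2
  simp only [pRk, qRk] at hlt
  obtain ⟨a, ⟨ha1, ha2⟩, ha3⟩ := SetLike.not_le_iff_exists.1 fun hle : LinearMap.ker (L.f i) ⊓ V i ≤ _ => by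
    have := Submodule.finrank_mono (hle : _ ≤ Submodule.map (L.g i) (V (i + 1)))
    omega
  obtain ⟨b, ⟨hb1, hb2⟩, hb3⟩ := SetLike.not_le_iff_exists.1 fun hle : LinearMap.ker (L.g i) ⊓ V (i + 1) ≤ _ => by
    have := Submodule.finrank_mono (hle : _ ≤ Submodule.map (L.f i) (V i))
    omega
  obtain ⟨u, hu⟩ := ((hN hs).1 i hi).1 hb1
  obtain ⟨φ, hφa, hφ0, hφi, hφg, hφf⟩ := exists_phi hs hN hV hi ha2 ha1 ha3
  let A := PowerSeries K
  let C : K →+* A := PowerSeries.C
  let uu : ℕ → (Fin d → K) := fun m => L.W m i u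
  let Φ : ℕ → (Fin d → K) → (Fin d → A) := fun m v =>
    C ∘ v + (PowerSeries.X * C (φ m v)) • (C ∘ uu m)
  have hΦadd : ∀ m v w, Φ m (v + w) = Φ m v + Φ m w := fun m v w => funext fun j => by
    simp only [Φ, map_add, Pi.add_apply, Pi.smul_apply, Function.comp_apply, smul_eq_mul]
    ring
  have hΦsmul : ∀ m (c : K) v, Φ m (c • v) = C c • Φ m v := fun m c v => funext fun j => by
    simp only [Φ, map_smul, smul_eq_mul, map_mul, Pi.add_apply, Pi.smul_apply, Function.comp_apply]
    ring
  have hrow : ∀ m, ∃ (Y : Fin r → Fin d → K), m ≤ n →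
      ∃ J : Fin r → Fin d, Function.Injective J ∧ IsUnit (detJ J Y) ∧ Submodule.span K (Set.range Y) = V m := by
    intro m
    by_cases hm : m ≤ n
    · obtain ⟨Y, J, h⟩ := exists_rows (hV.2 m hm)
      exact ⟨Y, fun _ => ⟨J, h⟩⟩
    · exact ⟨0, fun h => absurd h hm⟩
  choose Y hY using hrow
  let B : ℕ → Fin r → Fin d → A := fun m l => Φ m (Y m l)
  let S : ℕ → Submodule A (Fin d → A) := fun m => Submodule.span A (Set.range (B m))
  have hΦmem : ∀ m ≤ n, ∀ v ∈ V m, Φ m v ∈ S m := by
    intro m hm v hv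
    obtain ⟨J, -, -, hspan⟩ := hY m hm
    rw [← hspan] at hv
    induction hv using Submodule.span_induction with
    | mem v hv => obtain ⟨l, rfl⟩ := hv; exact Submodule.subset_span ⟨l, rfl⟩
    | zero =>
      have h0 : Φ m 0 = 0 := by simpa using hΦadd m 0 0
      rw [h0]; exact zero_mem _
    | add v w _ _ e1 e2 => rw [hΦadd]; exact add_mem e1 e2
    | smul c v _ e1 => rw [hΦsmul]; exact Submodule.smul_mem _ _ e1
  have hΦC : ∀ m, i < m → ∀ v, Φ m v = C ∘ v := fun m hm v => funext fun j => by
    simp [Φ, hφ0 m hm]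
  have hcc : ∀ m v, PowerSeries.constantCoeff ∘ Φ m v = v := fun m v => funext fun j => by
    simp [Φ, C, A]
  have hfΦ : ∀ m, m < n → ∀ v, (L.map C).f m (Φ m v) =
      C ∘ L.f m v + (PowerSeries.X * C (φ m v)) • (C ∘ L.f m (uu m)) := fun m hm v => by
    simp only [Φ, map_add, map_smul, map_f_comp]
  have hgΦ : ∀ m, m < n → ∀ v, (L.map C).g m (Φ (m + 1) v) =
      C ∘ L.g m v + (PowerSeries.X * C (φ (m + 1) v)) • (C ∘ L.g m (uu (m + 1))) := fun m hm v => by
    simp only [Φ, map_add, map_smul, map_g_comp]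
  have hlink : (L.map C).Linked S := by
    intro m hm
    refine ⟨?_, ?_⟩ <;> rw [Submodule.map_span, Submodule.span_le] <;> rintro _ ⟨_, ⟨l, rfl⟩, rfl⟩
    · obtain ⟨J, -, -, hspan⟩ := hY m (by omega)
      have hv : Y m l ∈ V m := hspan ▸ Submodule.subset_span ⟨l, rfl⟩
      have hfv : L.f m (Y m l) ∈ V (m + 1) := (hV.1 m hm).1 ⟨_, hv, rfl⟩
      show (L.map C).f m (Φ m (Y m l)) ∈ S (m + 1)
      rw [hfΦ m hm]
      rcases lt_trichotomy m i with hlt' | rfl | hgt
      · have h0 : L.f m (uu m) = 0 := by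
          rw [show uu m = L.g m (uu (m + 1)) from W_eq_g L hlt' u, L.hfg m hm, hs, zero_smul]
        have e := hΦmem (m + 1) (by omega) _ hfv
        simp only [Φ, hφf m hlt' _ hv] at e
        simp only [h0]
        have z1 : C ∘ (0 : Fin d → K) = 0 := funext fun j => map_zero C
        rw [z1, smul_zero, add_zero]
        simpa using e
      · refine add_mem ?_ (Submodule.smul_mem _ _ ?_)
        · rw [← hΦC (m + 1) (by omega)]; exact hΦmem _ (by omega) _ hfv
        · rw [show uu m = u from W_self L m u, hu, ← hΦC (m + 1) (by omega)]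
          exact hΦmem _ (by omega) _ hb2
      · rw [show φ m (Y m l) = 0 by rw [hφ0 m hgt]; rfl, map_zero, mul_zero, zero_smul, add_zero,
          ← hΦC (m + 1) (by omega)]
        exact hΦmem _ (by omega) _ hfv
    · obtain ⟨J, -, -, hspan⟩ := hY (m + 1) (by omega)
      have hv : Y (m + 1) l ∈ V (m + 1) := hspan ▸ Submodule.subset_span ⟨l, rfl⟩
      have hgv : L.g m (Y (m + 1) l) ∈ V m := (hV.1 m hm).2 ⟨_, hv, rfl⟩
      show (L.map C).g m (Φ (m + 1) (Y (m + 1) l)) ∈ S m
      rw [hgΦ m hm]
      have e := hΦmem m (by omega) _ hgv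
      rcases lt_or_ge m i with hlt' | hge
      · simp only [Φ, hφg m hlt' _ hv, show uu m = L.g m (uu (m + 1)) from W_eq_g L hlt' u] at e
        exact e
      · rw [show φ (m + 1) (Y (m + 1) l) = 0 by rw [hφ0 (m + 1) (by omega)]; rfl, map_zero, mul_zero, zero_smul,
          add_zero]
        rcases Nat.eq_or_lt_of_le hge with rfl | hgt
        · simp only [Φ, hφi _ hv, map_zero, mul_zero, zero_smul, add_zero] at e
          exact e
        · rwa [hΦC m hgt] at e
  have hminor : ∀ m ≤ n, ∃ J : Fin r → Fin d, Function.Injective J ∧ IsUnit (detJ J (B m)) := fun m hm => by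
    obtain ⟨J, hJ, hu', -⟩ := hY m hm
    refine ⟨J, hJ, PowerSeries.isUnit_iff_constantCoeff.2 ?_⟩
    rw [← detJ_map]
    simp only [B, hcc]
    exact hu'
  refine ⟨B, ⟨hminor, hlink, fun m hm => ?_⟩, ?_, fun m hm hmn => ?_⟩
  · obtain ⟨J, -, -, hspan⟩ := hY m hm
    rw [push_range]
    simp only [B, hcc]
    exact hspan
  · let ι : A →+* FractionRing A := algebraMap A (FractionRing A)
    have hb' : b ∉ Submodule.map (L.f i) (V i) := hb3
    have hrank : L.pRk V i + 1 ≤
        Module.finrank K ((Submodule.map (L.f i) (V i)) ⊔ Submodule.span K {b} : Submodule K (Fin d → K)) := by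
      refine Nat.succ_le_of_lt (Submodule.finrank_lt_finrank_of_lt (lt_of_le_of_ne le_sup_left fun he => ?_))
      exact hb' (he ▸ Submodule.mem_sup_right (Submodule.mem_span_singleton_self b))
    refine hrank.trans ((finrank_push (toGen K) _).symm.trans_le (Submodule.finrank_mono ?_))
    have hX : IsUnit (ι PowerSeries.X) := by
      rw [isUnit_iff_ne_zero, map_ne_zero_iff ι (IsFractionRing.injective A (FractionRing A))]
      exact PowerSeries.X_ne_zero
    have hmem : ∀ v ∈ V i, ι ∘ ((L.map C).f i (Φ i v)) ∈ Submodule.map ((L.map (toGen K)).f i) (gen B i) := by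
      intro v hv
      refine ⟨ι ∘ Φ i v, mem_push ι (hΦmem i (by omega) v hv), ?_⟩
      rw [show L.map (toGen K) = (L.map C).map ι from (map_map L C ι).symm]
      exact map_f_comp (L.map C) ι i _
    have hb4 : (toGen K) ∘ b ∈ Submodule.map ((L.map (toGen K)).f i) (gen B i) := by
      have e := hmem a ha2
      rw [hfΦ i hi, show L.f i a = 0 from ha1, hφa, show uu i = u from W_self L i u, hu] at e
      have e' : ι ∘ (C ∘ (0 : Fin d → K) + (PowerSeries.X * C 1) • (C ∘ b)) =
          ι PowerSeries.X • ((toGen K) ∘ b) := funext fun j => by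
        simp [toGen, ι, C, A]
      rw [e'] at e
      exact (Submodule.smul_mem_iff_of_isUnit _ hX).1 e
    rw [push, Submodule.span_le]
    rintro _ ⟨w, hw, rfl⟩
    obtain ⟨x, hx, y, hy, rfl⟩ := Submodule.mem_sup.1 hw
    obtain ⟨c, rfl⟩ := Submodule.mem_span_singleton.1 hy
    obtain ⟨v, hv, rfl⟩ := hx
    have e := hmem v hv
    rw [hfΦ i hi, show uu i = u from W_self L i u, hu] at e
    have e' : ι ∘ (C ∘ L.f i v + (PowerSeries.X * C (φ i v)) • (C ∘ b)) =
        (toGen K) ∘ L.f i v + (ι PowerSeries.X * toGen K (φ i v)) • ((toGen K) ∘ b) := funext fun j => by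
      simp [toGen, ι, C, A]
    rw [e'] at e
    show (toGen K) ∘ (L.f i v + c • b) ∈ _
    rw [comp_add', comp_smul]
    exact add_mem ((Submodule.add_mem_iff_left _ (Submodule.smul_mem _ _ hb4)).1 e) (Submodule.smul_mem _ _ hb4)
  · obtain ⟨J, -, -, hspan⟩ := hY m hmn
    rw [gen, push_range, ← hspan, push_range]
    simp only [B, hΦC m hm]
    rfl

/-- The reversed chain. -/
def rev (L : Lk K d n) : Lk K d n where
  f j := L.g (n - 1 - j)
  g j := L.f (n - 1 - j)
  s := L.s
  hgf j hj v := L.hfg _ (by omega) v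
  hfg j hj v := L.hgf _ (by omega) v

theorem linked_rev {A : Type u} [CommRing A] {L : Lk A d n} {L' : Lk A d n}
    (hf : ∀ j < n, L'.f j = L.g (n - 1 - j)) (hg : ∀ j < n, L'.g j = L.f (n - 1 - j))
    {W : ℕ → Submodule A (Fin d → A)} (hW : L.Linked W) : L'.Linked fun m => W (n - m) := by
  intro j hj
  have h := hW (n - 1 - j) (by omega)
  have e1 : n - 1 - j + 1 = n - j := by omega
  have e2 : n - 1 - j = n - (j + 1) := by omega
  rw [hf j hj, hg j hj]
  rw [e1] at h
  refine ⟨?_, ?_⟩
  · exact h.2.trans (le_of_eq (congrArg W e2))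
  · exact (Submodule.map_mono (le_of_eq (congrArg W e2.symm))).trans h.1

/-- Deforming a point where exactness fails at `i`, moving the levels above `i`. -/
theorem deform_right (hs : L.s = 0) (hN : L.Nice) (hV : L.IsPt r V) {i : ℕ} (hi : i < n)
    (hlt : L.pRk V i + L.qRk V i < r) :
    ∃ B : ℕ → Fin r → Fin d → PowerSeries K, Fam L r V B ∧ L.qRk V i + 1 ≤ (L.map (toGen K)).qRk (gen B) i ∧
      ∀ m, m ≤ i → gen B m = push (toGen K) (V m) := by
  let i' := n - 1 - i
  have ei : n - 1 - i' = i := by omega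
  have e1 : n - i' = i + 1 := by omega
  have e2 : n - (i' + 1) = i := by omega
  have hN' : L.rev.Nice := fun _ => by
    obtain ⟨h1, h2⟩ := hN hs
    refine ⟨fun j hj => ⟨(h1 _ (by omega)).2, (h1 _ (by omega)).1⟩, fun j hj => ?_⟩
    obtain ⟨k1, k2⟩ := h2 (n - 1 - (j + 1)) (by omega)
    rw [show n - 1 - (j + 1) + 1 = n - 1 - j by omega] at k1 k2
    exact ⟨k2, k1⟩
  have hV' : L.rev.IsPt r fun m => V (n - m) :=
    ⟨linked_rev (fun _ _ => rfl) (fun _ _ => rfl) hV.1, fun m hm => hV.2 _ (by omega)⟩
  have hp' : L.rev.pRk (fun m => V (n - m)) i' = L.qRk V i := by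
    show Module.finrank K (Submodule.map (L.g (n - 1 - i')) (V (n - i'))) = _
    rw [ei, e1]
    rfl
  have hq' : L.rev.qRk (fun m => V (n - m)) i' = L.pRk V i := by
    show Module.finrank K (Submodule.map (L.f (n - 1 - i')) (V (n - (i' + 1)))) = _
    rw [ei, e2]
    rfl
  obtain ⟨B', ⟨hB1, hB2, hB3⟩, hp, hconst⟩ := deform_left (L := L.rev) hs hN' hV' (i := i') (by omega) (by omega)
  refine ⟨fun m => B' (n - m), ⟨fun m _ => hB1 _ (by omega), ?_, fun m hm => ?_⟩, ?_, fun m hm => ?_⟩
  · refine linked_rev (L := L.rev.map PowerSeries.C) (fun j hj => ?_) (fun j hj => ?_) hB2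
    · show _ = ((LinearMap.toMatrix' (L.f (n - 1 - (n - 1 - j)))).map _).mulVecLin
      rw [show n - 1 - (n - 1 - j) = j by omega]
      rfl
    · show _ = ((LinearMap.toMatrix' (L.g (n - 1 - (n - 1 - j)))).map _).mulVecLin
      rw [show n - 1 - (n - 1 - j) = j by omega]
      rfl
  · have h := hB3 (n - m) (by omega)
    have e : n - (n - m) = m := by omega
    exact h.trans (congrArg V e)
  · have e : (L.rev.map (toGen K)).pRk (gen B') i' = (L.map (toGen K)).qRk (gen fun m => B' (n - m)) i := by
      have e3 : (L.rev.map (toGen K)).f i' = (L.map (toGen K)).g i := by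
        show ((LinearMap.toMatrix' (L.g (n - 1 - i'))).map _).mulVecLin = _
        rw [ei]
        rfl
      have e4 : gen (fun m => B' (n - m)) (i + 1) = gen B' i' :=
        congrArg (gen B') (show n - (i + 1) = i' by omega)
      refine Eq.trans ?_ (congrArg (fun N => Module.finrank (FractionRing (PowerSeries K))
        (Submodule.map ((L.map (toGen K)).g i) N)) e4).symm
      exact congrArg (fun F => Module.finrank (FractionRing (PowerSeries K)) (Submodule.map F (gen B' i'))) e3
    rw [← e, ← hp']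
    exact hp
  · have h := hconst (n - m) (by omega) (by omega)
    rw [show n - (n - m) = m by omega] at h
    exact h

/-- Exact points lie in a chart. -/
theorem exists_chart (hr : r ≤ d) (hN : L.Nice) (hV : L.IsPt r V) (hE : L.Exact V) :
    ∃ σ : CD d r n, L.InChart σ V := by
  classical
  have hrows : ∀ m, ∃ (Y : Fin r → Fin d → K) (J : Fin r ↪ Fin d), m ≤ n →
      IsUnit (detJ J Y) ∧ Submodule.span K (Set.range Y) = V m := by
    intro m
    by_cases hm : m ≤ n
    · obtain ⟨Y, J, hJ, h⟩ := exists_rows (hV.2 m hm)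
      exact ⟨Y, ⟨J, hJ⟩, fun _ => h⟩
    · exact ⟨0, Fin.castLEEmb hr, fun h => absurd h hm⟩
  choose Y₀ J hY₀ using hrows
  have hnorm : ∀ m, ∃ Y : Fin r → Fin d → K, m ≤ n → (∀ q, Y q ∈ V m) ∧ (∀ q, pr (J m) (Y q) = Pi.single q 1) ∧
      Submodule.span K (Set.range Y) = V m := by
    intro m
    by_cases hm : m ≤ n
    · obtain ⟨hu, hspan⟩ := hY₀ m hm
      haveI : Invertible (Matrix.of fun l i => Y₀ m l (J m i)) := Matrix.invertibleOfIsUnitDet _ hu
      let M := ⅟ (Matrix.of fun l i => Y₀ m l (J m i))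
      let Y : Fin r → Fin d → K := fun q => ∑ l, M q l • Y₀ m l
      have hmem : ∀ q, Y q ∈ V m := fun q => hspan ▸
        Submodule.sum_mem _ fun l _ => Submodule.smul_mem _ _ (Submodule.subset_span ⟨l, rfl⟩)
      have hpr : ∀ q, pr (J m) (Y q) = Pi.single q 1 := fun q => by
        rw [show pr (J m) (Y q) = Matrix.vecMul (M q) (Matrix.of fun l i => Y₀ m l (J m i)) from pr_sum _ _ _]
        funext i
        show (M * (Matrix.of fun l i => Y₀ m l (J m i))) q i = _
        rw [invOf_mul_self, Matrix.one_apply, Pi.single_apply]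
        simp [eq_comm]
      refine ⟨Y, fun _ => ⟨hmem, hpr, le_antisymm (Submodule.span_le.2 (by rintro _ ⟨q, rfl⟩; exact hmem q)) ?_⟩⟩
      intro v hv
      have h0 : v - ∑ q, pr (J m) v q • Y q = 0 := eq_zero_of_pr hu (hspan.symm ▸
        Submodule.sub_mem _ hv (Submodule.sum_mem _ fun q _ => Submodule.smul_mem _ _ (hmem q))) (by
          rw [map_sub, map_sum]
          simp only [map_smul, hpr]
          rw [sub_eq_zero]
          funext i
          simp [Finset.sum_apply, Pi.single_apply])
      rw [sub_eq_zero.1 h0]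
      exact Submodule.sum_mem _ fun q _ => Submodule.smul_mem _ _ (Submodule.subset_span ⟨q, rfl⟩)
    · exact ⟨0, fun h => absurd h hm⟩
  choose Y hY using hnorm
  suffices H : ∃ (lv : Fin r → Fin (n + 1)) (q : Fin r → Fin r),
      ∀ m ≤ n, V m ≤ Submodule.span K (Set.range fun l => L.W m (lv l).1 (Y (lv l).1 (q l))) by
    obtain ⟨lv, q, H⟩ := H
    let σ : CD d r n := (fun m => J m.1, lv, q)
    have hJ : ∀ m ≤ n, σ.J m = J m := fun m hm => by
      show (fun i => J (min m n) i) = _
      rw [min_eq_left hm]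
    let c : σ.Crd → K := fun p => Y (σ.lv p.1) (q p.1) p.2.1
    have hvec : ∀ l, σ.vec c l = Y (lv l).1 (q l) := fun l => by
      funext j
      by_cases hj : j ∈ Set.range (σ.J (σ.lv l))
      · obtain ⟨i, rfl⟩ := hj
        have h1 := congrFun (σ.pr_vec c l) i
        have h2 := congrFun ((hY (lv l).1 (σ.lv_le l)).2.1 (q l)) i
        have e : J (lv l).1 i = σ.J (σ.lv l) i := (congrFun (hJ _ (σ.lv_le l)) i).symm
        show σ.vec c l (σ.J (σ.lv l) i) = _
        refine h1.trans (h2.symm.trans ?_)
        show Y (lv l).1 (q l) (J (lv l).1 i) = _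
        rw [e]
      · show (if h : j ∈ Set.range (σ.J (σ.lv l)) then _ else _) = _
        rw [dif_neg hj]
        rfl
    refine ⟨σ, c, fun m hm => ?_, fun m hm => ?_⟩
    rotate_left
    all_goals
      have hrw : L.rows σ c m = fun l => L.W m (lv l).1 (Y (lv l).1 (q l)) := funext fun l => by
        rw [rows, hvec]
        rfl
      have hle : L.chartV σ c m ≤ V m := by
        rw [chartV, hrw, Submodule.span_le]
        rintro _ ⟨l, rfl⟩
        exact W_mem hV.1 (Nat.le_of_lt_succ (lv l).2) ((hY _ (Nat.le_of_lt_succ (lv l).2)).1 (q l)) hm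
      have heq : V m = L.chartV σ c m := le_antisymm ((H m hm).trans (le_of_eq (by rw [chartV, hrw]))) hle
    · exact heq
    · rw [delta, hJ m hm, isUnit_iff_ne_zero]
      intro h0
      obtain ⟨a, ha, haz⟩ := Matrix.exists_vecMul_eq_zero_iff.2 h0
      have hz : ∑ l, a l • L.rows σ c m l = 0 := eq_zero_of_pr (J := J m) (Y := Y₀ m) (hY₀ m hm).1 (by
        rw [(hY₀ m hm).2, heq]
        exact Submodule.sum_mem _ fun l _ => Submodule.smul_mem _ _ (Submodule.subset_span ⟨l, rfl⟩)) (by
        rw [pr_sum]; exact haz)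
      have hli : LinearIndependent K (L.rows σ c m) := linearIndependent_iff_card_eq_finrank_span.2 (by
        rw [Fintype.card_fin]
        exact (hV.2 m hm).symm.trans (by rw [heq]; rfl))
      exact ha (funext fun l => Fintype.linearIndependent_iff.1 hli a hz l)
  by_cases hs : L.s = 0
  swap
  · refine ⟨fun _ => 0, id, fun m hm => ?_⟩
    have hinj : ∀ m, m ≤ n → Function.Injective (L.W m 0) := by
      intro m
      induction m with
      | zero => exact fun _ a b h => by simpa [W_self] using h
      | succ m ih =>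
        intro hm a b h
        rw [W_eq_f L (Nat.zero_le m), W_eq_f L (Nat.zero_le m)] at h
        have h1 := congrArg (L.g m) h
        rw [L.hgf m (by omega), L.hgf m (by omega)] at h1
        exact ih (by omega) (smul_right_injective _ hs h1)
    refine (Submodule.eq_of_le_of_finrank_le (?_ : _ ≤ V m) ?_).ge
    · rw [Submodule.span_le]
      rintro _ ⟨l, rfl⟩
      exact W_mem hV.1 (Nat.zero_le n) ((hY 0 (Nat.zero_le n)).1 _) hm
    · rw [hV.2 m hm, show (fun l : Fin r => L.W m (0 : Fin (n + 1)).1 (Y (0 : Fin (n + 1)).1 (id l))) = (L.W m 0) ∘ (Y 0)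
        from rfl, Set.range_comp, Submodule.span_image, (hY 0 (Nat.zero_le n)).2.2,
        (Submodule.equivMapOfInjective _ (hinj m hm) (V 0)).finrank_eq.symm, hV.2 0 (Nat.zero_le n)]
  · obtain ⟨hr1, hr2⟩ := hN hs
    have hrk := (exact_iff hs hV).1 hE
    let pf : ℕ → Submodule K (Fin d → K) := fun m => if m = 0 then ⊥ else Submodule.map (L.f (m - 1)) (V (m - 1))
    let qg : ℕ → Submodule K (Fin d → K) := fun m => if m < n then Submodule.map (L.g m) (V (m + 1)) else ⊥
    let S : ℕ → Submodule K (Fin d → K) := fun m => pf m ⊔ qg m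
    have hpq : ∀ m ≤ n, pf m ⊓ qg m = ⊥ := by
      intro m hm
      rw [eq_bot_iff]
      rintro v ⟨h1, h2⟩
      rcases m with _ | j
      · exact h1
      · by_cases hj : j + 1 < n
        · have h2' : v ∈ Submodule.map (L.g (j + 1)) (V (j + 1 + 1)) := by
            have := h2; simp only [qg, if_pos hj] at this; exact this
          obtain ⟨w, -, rfl⟩ := h1
          have h3 : L.f (j + 1 - 1) w ∈ LinearMap.range (L.f j) ⊓ LinearMap.ker (L.f (j + 1)) :=
            ⟨⟨w, rfl⟩, (map_g_le hs hV.1 hj h2').1⟩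
          rw [(hr2 j hj).1] at h3
          exact h3
        · have := h2; simp only [qg, if_neg hj] at this; exact this
    have hSle : ∀ m ≤ n, S m ≤ V m := by
      intro m hm
      refine sup_le ?_ ?_
      · rcases m with _ | j
        · exact bot_le
        · exact (hV.1 j (by omega)).1
      · by_cases hmn : m < n
        · simp only [qg, if_pos hmn]; exact (hV.1 m hmn).2
        · simp only [qg, if_neg hmn]; exact bot_le
    have hsel : ∀ m, ∃ (k : ℕ) (sel : Fin k → Fin r), m ≤ n →
        k + Module.finrank K (S m) = r ∧ V m ≤ S m ⊔ Submodule.span K (Set.range fun x => Y m (sel x)) := by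
      intro m
      by_cases hm : m ≤ n
      · let π := (S m).mkQ
        obtain ⟨f, hf, hspan, hli⟩ := Submodule.exists_fun_fin_finrank_span_eq K (π '' Set.range (Y m))
        choose w hw hw' using hf
        choose sel hsel using hw
        have himg : Submodule.span K (π '' Set.range (Y m)) = Submodule.map π (V m) := by
          rw [Submodule.span_image, (hY m hm).2.2]
        refine ⟨_, sel, fun _ => ⟨?_, ?_⟩⟩
        · rw [himg]
          have h1 := LinearMap.finrank_range_add_finrank_ker (π.domRestrict (V m))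
          have h2 : LinearMap.range (π.domRestrict (V m)) = Submodule.map π (V m) := by
            rw [LinearMap.domRestrict, LinearMap.range_comp, Submodule.range_subtype]
          have h3 : Submodule.map (V m).subtype (LinearMap.ker (π.domRestrict (V m))) = S m := by
            rw [LinearMap.domRestrict, LinearMap.ker_comp, Submodule.map_comap_subtype, Submodule.ker_mkQ,
              inf_eq_right.2 (hSle m hm)]
          rw [h2, (Submodule.equivMapOfInjective _ (V m).injective_subtype _).finrank_eq, h3, hV.2 m hm] at h1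
          exact h1
        · intro v hv
          have h1 : π v ∈ Submodule.span K (Set.range f) := by rw [hspan, himg]; exact ⟨v, hv, rfl⟩
          obtain ⟨a, ha⟩ := (Submodule.mem_span_range_iff_exists_fun K).1 h1
          have h2 : v - ∑ x, a x • Y m (sel x) ∈ S m := by
            refine (le_of_eq (Submodule.ker_mkQ (S m))) ?_
            rw [LinearMap.mem_ker, map_sub, map_sum]
            simp only [map_smul, hsel]
            rw [show ∑ x, a x • π (w x) = ∑ x, a x • f x from Finset.sum_congr rfl fun x _ => by rw [hw' x], ha, sub_self]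
          refine Submodule.mem_sup.2 ⟨_, h2, _, ?_, sub_add_cancel v _⟩
          exact Submodule.sum_mem _ fun x _ => Submodule.smul_mem _ _ (Submodule.subset_span ⟨x, rfl⟩)
      · exact ⟨0, Fin.elim0, fun h => absurd h hm⟩
    choose k sel hsel using hsel
    have hpartial : ∀ j, j ≤ n → ∑ m ∈ Finset.range j, k m = Module.finrank K (pf j) := by
      intro j
      induction j with
      | zero => intro _; rw [Finset.sum_range_zero, show pf 0 = ⊥ from rfl, finrank_bot]
      | succ j ih =>
        intro hj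
        have h := Submodule.finrank_sup_add_finrank_inf_eq (pf j) (qg j)
        rw [hpq j (by omega), finrank_bot, Nat.add_zero] at h
        have e2 : qg j = Submodule.map (L.g j) (V (j + 1)) := if_pos (by omega)
        have h2 : Module.finrank K (qg j) = L.qRk V j := by rw [e2]; rfl
        have h3 : Module.finrank K (pf (j + 1)) = L.pRk V j := rfl
        have h4 := (hsel j (by omega)).1
        have h5 := hrk j (by omega)
        rw [Finset.sum_range_succ, ih (by omega)]
        simp only [S] at h4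
        omega
    have hsum : ∑ m : Fin (n + 1), k m.1 = r := by
      rw [Fin.sum_univ_eq_sum_range (fun m => k m), Finset.sum_range_succ, hpartial n le_rfl]
      have h4 := (hsel n le_rfl).1
      have h : S n = pf n := by simp only [S, qg, if_neg (lt_irrefl n), sup_bot_eq]
      rw [h] at h4
      omega
    let e : Fin r ≃ Σ m : Fin (n + 1), Fin (k m.1) := (finCongr hsum.symm).trans finSigmaFinEquiv.symm
    refine ⟨fun l => (e l).1, fun l => sel (e l).1.1 (e l).2, ?_⟩
    let T : ℕ → Submodule K (Fin d → K) := fun m =>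
      Submodule.span K (Set.range fun l => L.W m (e l).1.1 (Y (e l).1.1 (sel (e l).1.1 (e l).2)))
    have hC : ∀ m, m ≤ n → Submodule.span K (Set.range fun x => Y m (sel m x)) ≤ T m := by
      intro m hm
      rw [Submodule.span_le]
      rintro _ ⟨x, rfl⟩
      refine Submodule.subset_span ⟨e.symm ⟨⟨m, by omega⟩, x⟩, ?_⟩
      have key : ∀ z, z = (⟨⟨m, by omega⟩, x⟩ : Σ m : Fin (n + 1), Fin (k m.1)) →
          L.W m z.1.1 (Y z.1.1 (sel z.1.1 z.2)) = Y m (sel m x) := by
        rintro z rfl
        exact W_self L m _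
      exact key _ (e.apply_symm_apply _)
    have hTf : ∀ m, m < n → Submodule.map (L.f m) (T m) ≤ T (m + 1) := by
      intro m hm
      rw [Submodule.map_span, Submodule.span_le]
      rintro _ ⟨_, ⟨l, rfl⟩, rfl⟩
      rw [SetLike.mem_coe, L.f_W hm]
      exact Submodule.smul_mem _ _ (Submodule.subset_span ⟨l, rfl⟩)
    have hTg : ∀ m, m < n → Submodule.map (L.g m) (T (m + 1)) ≤ T m := by
      intro m hm
      rw [Submodule.map_span, Submodule.span_le]
      rintro _ ⟨_, ⟨l, rfl⟩, rfl⟩
      rw [SetLike.mem_coe, L.g_W hm]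
      exact Submodule.smul_mem _ _ (Submodule.subset_span ⟨l, rfl⟩)
    have hpf : ∀ m, m ≤ n → pf m ≤ T m := by
      intro m
      induction m with
      | zero => exact fun _ => bot_le
      | succ j ih =>
        intro hj
        show Submodule.map (L.f j) (V j) ≤ _
        refine (Submodule.map_mono (hsel j (by omega)).2).trans ?_
        simp only [S, qg, if_pos (show j < n by omega), Submodule.map_sup]
        refine sup_le (sup_le ((Submodule.map_mono (ih (by omega))).trans (hTf j (by omega))) ?_)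
          ((Submodule.map_mono (hC j (by omega))).trans (hTf j (by omega)))
        rintro _ ⟨_, ⟨w, -, rfl⟩, rfl⟩
        rw [L.hfg j (by omega), hs, zero_smul]
        exact zero_mem _
    have hqg : ∀ k', k' ≤ n → qg (n - k') ≤ T (n - k') := by
      intro k'
      induction k' with
      | zero =>
        intro _
        simp only [Nat.sub_zero, qg, if_neg (lt_irrefl n)]
        exact bot_le
      | succ k' ih =>
        intro hk
        have hj : n - (k' + 1) < n := by omega
        have e0 : n - (k' + 1) + 1 = n - k' := by omega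
        show (if n - (k' + 1) < n then _ else _) ≤ _
        rw [if_pos hj, e0]
        refine (Submodule.map_mono (hsel (n - k') (by omega)).2).trans ?_
        have hg' : ∀ N : Submodule K (Fin d → K), N ≤ T (n - k') →
            Submodule.map (L.g (n - (k' + 1))) N ≤ T (n - (k' + 1)) := fun N hN' => by
          refine (Submodule.map_mono (hN'.trans (le_of_eq (congrArg T e0.symm)))).trans (hTg _ hj)
        simp only [S, Submodule.map_sup]
        refine sup_le (sup_le ?_ (hg' _ (ih (by omega)))) (hg' _ (hC _ (by omega)))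
        rintro _ ⟨v, hv, rfl⟩
        simp only [pf, if_neg (show n - k' ≠ 0 by omega), show n - k' - 1 = n - (k' + 1) by omega] at hv
        obtain ⟨w, -, rfl⟩ := hv
        rw [L.hgf _ hj, hs, zero_smul]
        exact zero_mem _
    intro m hm
    refine (hsel m hm).2.trans (sup_le (sup_le (hpf m hm) ?_) (hC m hm))
    have := hqg (n - m) (by omega)
    rwa [show n - (n - m) = m by omega] at this

end Lk

end Groth.Agent.LinkGr22
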