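import Groth.Agent.LinkGr22.Locus
import Groth.Agent.LinkGr22.Exists
import Groth.Agent.DimLib.Components
import Groth.Agent.DimLib.Maximal
import Mathlib.RingTheory.KrullDimension.Polynomial
import Mathlib.RingTheory.Smooth.StandardSmooth

/-!
# Smoothness, components and dimension of the linked Grassmannian over a field
-/

set_option autoImplicit false
set_option linter.unusedSectionVars false
set_option linter.style.haveILetI false
set_option backward.isDefEq.respectTransparency.types false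

universe u

open CategoryTheory CategoryTheory.Limits AlgebraicGeometry
open Groth.Agent.GrassLib W4c1limliniiii

namespace Groth.Agent.LinkGr22

variable {d r n : ℕ} {k : Type u} [Field k] {f g : Fin n → ((Fin d → k) →ₗ[k] (Fin d → k))} {s : k}
  {hI : ∀ i, (f i).comp (g i) = s • LinearMap.id ∧ (g i).comp (f i) = s • LinearMap.id}
  {X : Over (Spec (CommRingCat.of k))} (D : Rep d r n f g s hI X)

theorem Rep.locallyOfFinitePresentation (D : Rep d r n f g s hI X) : LocallyOfFinitePresentation X.hom := by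
  obtain ⟨Y, e', he', hY⟩ := exists_linked k d r n f g
  obtain ⟨i, -⟩ := exists_iso (fun A => (D.e A).trans (e' A).symm) fun A B φ x x' h => by
    have h1 : (e' B).symm (D.e B x') = ptMap φ ≫ (e' A).symm (D.e A x) := by
      refine (e' B).symm_apply_eq.2 (Subtype.ext (funext fun i => ?_))
      rw [D.he A B φ x x' h, he' A B φ _ (ptMap φ ≫ (e' A).symm (D.e A x)) rfl, Equiv.apply_symm_apply]
    exact congrArg CommaMorphism.left h1
  haveI : IsIso i.hom.left := (inferInstance : IsIso ((Over.forget _).map i.hom))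
  haveI := hY
  have hft : LocallyOfFiniteType X.hom := by
    rw [← Over.w i.hom]
    infer_instance
  exact LocallyOfFinitePresentation.iff_locallyOfFiniteType.2 hft

variable (σ : CD d r n)

theorem CD.card_crd : Fintype.card σ.Crd = r * (d - r) := by
  classical
  rw [Fintype.card_sigma]
  refine (Finset.sum_const_nat (m := d - r) fun l _ => ?_).trans (by rw [Finset.card_univ, Fintype.card_fin])
  rw [Fintype.card_subtype_compl, Fintype.card_fin]
  congr 1
  exact (Fintype.card_congr (Equiv.ofInjective _ (σ.J_injective _)).symm).trans (Fintype.card_fin r)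

theorem Rep.smooth_chart : Smooth (pt (D.U σ)).hom := by
  show Smooth (Spec.map (CommRingCat.ofHom (algebraMap k (Localization.Away ((lkOf f g s hI).Delta σ)))))
  rw [HasRingHomProperty.Spec_iff (P := @Smooth), CommRingCat.hom_ofHom, RingHom.smooth_algebraMap]
  haveI : Algebra.Smooth (PolyC k σ) (Localization.Away ((lkOf f g s hI).Delta σ)) :=
    .of_isLocalization_Away ((lkOf f g s hI).Delta σ)
  haveI : Algebra.Smooth k (PolyC k σ) := ⟨inferInstance, inferInstance⟩
  exact Algebra.Smooth.comp k (PolyC k σ) (Localization.Away ((lkOf f g s hI).Delta σ))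

theorem Rep.isDomain_chart (u : (pt (D.U σ)).left) : IsDomain (D.U σ) := by
  have hne : (lkOf f g s hI).Delta σ ≠ 0 := fun h0 => by
    haveI : Subsingleton (Localization.Away ((lkOf f g s hI).Delta σ)) :=
      IsLocalization.subsingleton (M := Submonoid.powers ((lkOf f g s hI).Delta σ)) (h0 ▸ Submonoid.mem_powers _)
    exact (u : PrimeSpectrum (Localization.Away ((lkOf f g s hI).Delta σ))).2.ne_top
      ((Ideal.eq_top_iff_one _).2 (Subsingleton.elim (0 : Localization.Away ((lkOf f g s hI).Delta σ)) 1 ▸ Ideal.zero_mem _))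
  exact (IsLocalization.isDomain_of_le_nonZeroDivisors (Localization.Away ((lkOf f g s hI).Delta σ))
    (powers_le_nonZeroDivisors_of_noZeroDivisors hne) : IsDomain (Localization.Away ((lkOf f g s hI).Delta σ)))

/-- A point of `X` without proper generizations, generizing a point of a chart, is the generic point of the chart. -/
theorem Rep.eq_generic {η x : X.left} (hη : ∀ z, z ⤳ η → η = z) (hs : η ⤳ x) (hx : x ∈ Set.range (D.jU σ).left) :
    ∃ w : (pt (D.U σ)).left, (∀ u, w ⤳ u) ∧ (D.jU σ).left w = η := by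
  obtain ⟨u, hu⟩ := hs.mem_open (isOpenImmersion_jU D σ).base_open.isOpen_range hx
  haveI := D.isDomain_chart σ u
  refine ⟨(⟨⊥, Ideal.isPrime_bot⟩ : PrimeSpectrum (D.U σ)), fun v => (PrimeSpectrum.le_iff_specializes _ _).1 bot_le, ?_⟩
  refine (hη _ (hu ▸ Specializes.map ?_ (D.jU σ).left.continuous)).symm
  exact (PrimeSpectrum.le_iff_specializes (⟨⊥, Ideal.isPrime_bot⟩ : PrimeSpectrum (D.U σ)) u).1 bot_le

theorem Rep.pAt_eq_of_specializes (hs : s = 0) (H : Hyp r f g) {η x : X.left} (h : η ⤳ x) (hx : D.Ex x) {i : ℕ}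
    (hi : i < n) : D.pAt η i = D.pAt x i := by
  obtain ⟨σ, hσ⟩ := (D.ex_iff_exists_chart H x).1 hx
  rw [D.pAt_chart hs σ x hσ hi, D.pAt_chart hs σ η (h.mem_open (isOpenImmersion_jU D σ).base_open.isOpen_range hσ) hi]

theorem exists_gen_component (x : X.left) :
    ∃ Z ∈ irreducibleComponents X.left, x ∈ Z ∧ ∃ η, IsGenericPoint η Z ∧ ∀ z, z ⤳ η → η = z := by
  obtain ⟨η, hη, hz⟩ := DimLib.exists_genericPoint_of_mem_components
    (irreducibleComponent_mem_irreducibleComponents x)
  exact ⟨_, irreducibleComponent_mem_irreducibleComponents x, mem_irreducibleComponent, η, hη, hz⟩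

/-- Every point with two components through it fails to be exact, and conversely. -/
theorem Rep.not_ex_iff (H : Hyp r f g) (x : X.left) :
    ¬ D.Ex x ↔ ∃ Z₁ ∈ irreducibleComponents X.left, ∃ Z₂ ∈ irreducibleComponents X.left,
      Z₁ ≠ Z₂ ∧ x ∈ Z₁ ∩ Z₂ := by
  constructor
  · intro hx
    by_cases hs : s = 0
    swap
    · exact absurd ((D.ex_iff H x).2 (Or.inl hs)) hx
    obtain ⟨i, hi, y₁, y₂, hy₁, hy₂, he₁, he₂, hne⟩ := D.exists_two_gen H hs x hx
    obtain ⟨Z₁, hZ₁, hm₁, η₁, hη₁, -⟩ := exists_gen_component y₁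
    obtain ⟨Z₂, hZ₂, hm₂, η₂, hη₂, -⟩ := exists_gen_component y₂
    refine ⟨Z₁, hZ₁, Z₂, hZ₂, fun h => hne ?_, hy₁.mem_closed (isClosed_of_mem_irreducibleComponents _ hZ₁) hm₁,
      hy₂.mem_closed (isClosed_of_mem_irreducibleComponents _ hZ₂) hm₂⟩
    rw [← D.pAt_eq_of_specializes hs H (hη₁.specializes hm₁) he₁ hi,
      ← D.pAt_eq_of_specializes hs H (hη₂.specializes hm₂) he₂ hi, IsGenericPoint.eq hη₁ (h ▸ hη₂)]
  · rintro ⟨Z₁, hZ₁, Z₂, hZ₂, hne, hx₁, hx₂⟩ hex
    refine hne ?_
    obtain ⟨σ, hσ⟩ := (D.ex_iff_exists_chart H x).1 hex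
    obtain ⟨η₁, hη₁, hmin₁⟩ := DimLib.exists_genericPoint_of_mem_components hZ₁
    obtain ⟨η₂, hη₂, hmin₂⟩ := DimLib.exists_genericPoint_of_mem_components hZ₂
    obtain ⟨w₁, hw₁, e₁⟩ := D.eq_generic σ hmin₁ (hη₁.specializes hx₁) hσ
    obtain ⟨w₂, hw₂, e₂⟩ := D.eq_generic σ hmin₂ (hη₂.specializes hx₂) hσ
    have : w₁ = w₂ := ((hw₁ w₂).antisymm (hw₂ w₁)).eq
    rw [← hη₁.def, ← hη₂.def, ← e₁, ← e₂, this]

theorem Rep.dense_ex (H : Hyp r f g) : Dense {x | D.Ex x} := fun x => by
  obtain ⟨y, hy, he, -⟩ := D.exists_ex_gen H x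
  exact closure_mono (Set.singleton_subset_iff.2 he) hy.mem_closure

theorem Rep.formallySmooth_at (H : Hyp r f g) (x : X.left) (hx : D.Ex x) : (X.hom.stalkMap x).hom.FormallySmooth := by
  haveI := D.locallyOfFinitePresentation
  obtain ⟨σ, u, rfl⟩ := (D.ex_iff_exists_chart H x).1 hx
  haveI := isOpenImmersion_jU D σ
  haveI : Smooth ((D.jU σ).left ≫ X.hom) := by rw [Over.w (D.jU σ)]; exact D.smooth_chart σ
  have h : u ∈ (D.jU σ).left ⁻¹ᵁ X.hom.smoothLocus := by
    rw [Scheme.Hom.preimage_smoothLocus_eq, Scheme.Hom.smoothLocus_eq_top]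
    trivial
  exact h

/-- The generic point of a chart has transcendence degree `r (d - r)`. -/
theorem Rep.ptDim_generic (w : (pt (D.U σ)).left) (hw : ∀ u, w ⤳ u) :
    DimLib.ptDim (k := k) (pt (D.U σ)).hom w = r * (d - r) := by
  let ι : CommAlgCat.of k (PolyC k σ) ⟶ D.U σ :=
    CommAlgCat.ofHom (IsScalarTower.toAlgHom k (PolyC k σ) (Localization.Away ((lkOf f g s hI).Delta σ)))
  haveI : IsOpenImmersion (ptMap ι).left :=
    (inferInstance : IsOpenImmersion (Spec.map (CommRingCat.ofHom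
      (algebraMap (PolyC k σ) (Localization.Away ((lkOf f g s hI).Delta σ))))))
  let P := (pt (CommAlgCat.of k (PolyC k σ))).left
  let η : P := (⟨⊥, Ideal.isPrime_bot⟩ : PrimeSpectrum (PolyC k σ))
  have hηs : ∀ v : P, η ⤳ v := fun v =>
    (PrimeSpectrum.le_iff_specializes (⟨⊥, Ideal.isPrime_bot⟩ : PrimeSpectrum (PolyC k σ)) v).1 bot_le
  have hwη : (ptMap ι).left w = η := by
    obtain ⟨v, hv⟩ : η ∈ Set.range (ptMap ι).left :=
      (hηs _).mem_open (ptMap ι).left.isOpenEmbedding.isOpen_range ⟨w, rfl⟩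
    refine ((Specializes.antisymm ?_ (hηs _)).eq)
    rw [← hv]
    exact (hw v).map (ptMap ι).left.continuous
  haveI : LocallyOfFiniteType (pt (CommAlgCat.of k (PolyC k σ))).hom := by
    show LocallyOfFiniteType (Spec.map (CommRingCat.ofHom (algebraMap k (PolyC k σ))))
    rw [HasRingHomProperty.Spec_iff (P := @LocallyOfFiniteType), CommRingCat.hom_ofHom, RingHom.finiteType_algebraMap]
    infer_instance
  rw [← Over.w (ptMap ι), DimLib.ptDim_of_isIso, hwη]
  have h := DimLib.topologicalKrullDim_eq_ptDim_of_isGenericPoint (pt (CommAlgCat.of k (PolyC k σ))).hom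
    (Z := Set.univ) (η := η) (by
      rw [isGenericPoint_def, Set.eq_univ_iff_forall]
      exact fun v => (hηs v).mem_closure)
  rw [IsHomeomorph.topologicalKrullDim_eq _ (Homeomorph.Set.univ P).isHomeomorph] at h
  have h2 : topologicalKrullDim P = ((r * (d - r) : ℕ) : WithBot ℕ∞) := by
    show topologicalKrullDim (PrimeSpectrum (PolyC k σ)) = _
    rw [PrimeSpectrum.topologicalKrullDim_eq_ringKrullDim, MvPolynomial.ringKrullDim_of_isNoetherianRing,
      ringKrullDim_eq_zero_of_field, Nat.card_eq_fintype_card, σ.card_crd, zero_add]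
  rw [h2] at h
  exact_mod_cast h.symm

include D in
theorem Rep.dim_component (H : Hyp r f g) {Z : Set X.left} (hZ : Z ∈ irreducibleComponents X.left) :
    topologicalKrullDim Z = (r * (d - r) : ℕ) := by
  obtain ⟨η, hη, hmin⟩ := DimLib.exists_genericPoint_of_mem_components hZ
  obtain ⟨y, hy, he, -⟩ := D.exists_ex_gen H η
  obtain ⟨σ, hσ⟩ := (D.ex_iff_exists_chart H y).1 he
  obtain ⟨w, hw, e⟩ := D.eq_generic σ hmin (hmin y hy ▸ specializes_rfl) hσ
  haveI := D.locallyOfFinitePresentation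
  haveI := isOpenImmersion_jU D σ
  rw [DimLib.topologicalKrullDim_eq_ptDim_of_isGenericPoint X.hom hη, ← e, ← DimLib.ptDim_of_isIso,
    Over.w (D.jU σ), D.ptDim_generic σ w hw]

/-- Exactness of a rational point. -/
theorem Rep.isExact_iff_ex (H : Hyp r f g) (p : pt (CommAlgCat.of k k) ⟶ X)
    (z : (pt (CommAlgCat.of k k)).left) :
    IsExact k d r n f g (CommAlgCat.of k k) (D.e _ p).1 ↔ D.Ex (p.left z) :=
  (isExact_iff hI _).trans (D.exact_iff_ex H k p z)

end Groth.Agent.LinkGr22
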