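import Groth.Agent.LinkGr22.Charts

/-!
# The exact locus of a linked Grassmannian over a field
-/

set_option autoImplicit false
set_option linter.unusedSectionVars false
set_option linter.style.haveILetI false
set_option backward.isDefEq.respectTransparency.types false

universe u

open CategoryTheory CategoryTheory.Limits AlgebraicGeometry
open Groth.Agent.GrassLib W4c1limliniiii

namespace Groth.Agent.LinkGr22

variable {d r n : ℕ}

section Ext

variable {K F : Type u} [Field K] [Field F] (L : Lk K d n) (φ : K →+* F) (V : ℕ → Submodule K (Fin d → K))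

theorem pRk_push (i : ℕ) : (L.map φ).pRk (fun m => push φ (V m)) i = L.pRk V i := by
  rw [Lk.pRk, Lk.map_push_f, finrank_push]
  rfl

theorem qRk_push (i : ℕ) : (L.map φ).qRk (fun m => push φ (V m)) i = L.qRk V i := by
  rw [Lk.qRk, Lk.map_push_g, finrank_push]
  rfl

theorem push_top : push φ (⊤ : Submodule K (Fin d → K)) = ⊤ := by
  refine Submodule.eq_top_of_finrank_eq ?_
  rw [finrank_push, finrank_top, Module.finrank_fin_fun, Module.finrank_fin_fun]

theorem finrank_range_f (i : ℕ) :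
    Module.finrank F (LinearMap.range ((L.map φ).f i)) = Module.finrank K (LinearMap.range (L.f i)) := by
  rw [LinearMap.range_eq_map, LinearMap.range_eq_map, ← push_top φ, Lk.map_push_f, finrank_push]

theorem finrank_range_g (i : ℕ) :
    Module.finrank F (LinearMap.range ((L.map φ).g i)) = Module.finrank K (LinearMap.range (L.g i)) := by
  rw [LinearMap.range_eq_map, LinearMap.range_eq_map, ← push_top φ, Lk.map_push_g, finrank_push]

end Ext

/-- The hypotheses on the chain persist under extensions of fields. -/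
theorem nice_map {K F : Type u} [Field K] [Field F] (L : Lk K d n) (φ : K →+* F)
    (h1 : ∀ i < n, d ≤ Module.finrank K (LinearMap.range (L.f i)) + Module.finrank K (LinearMap.range (L.g i)))
    (h2 : ∀ i, i + 1 < n → LinearMap.range (L.f i) ⊓ LinearMap.ker (L.f (i + 1)) = ⊥ ∧
      LinearMap.range (L.g (i + 1)) ⊓ LinearMap.ker (L.g i) = ⊥) : (L.map φ).Nice := by
  intro hs
  refine ⟨fun i hi => ?_, fun i hi => ?_⟩
  · have h := h1 i hi
    rw [← finrank_range_f L φ, ← finrank_range_g L φ] at h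
    constructor
    · refine (Submodule.eq_of_le_of_finrank_le (S₁ := LinearMap.range ((L.map φ).f i)) ?_ ?_).ge
      · rintro _ ⟨v, rfl⟩
        rw [LinearMap.mem_ker, (L.map φ).hgf i hi, hs, zero_smul]
      · have := LinearMap.finrank_range_add_finrank_ker ((L.map φ).g i)
        rw [Module.finrank_fin_fun] at this
        omega
    · refine (Submodule.eq_of_le_of_finrank_le (S₁ := LinearMap.range ((L.map φ).g i)) ?_ ?_).ge
      · rintro _ ⟨v, rfl⟩
        rw [LinearMap.mem_ker, (L.map φ).hfg i hi, hs, zero_smul]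
      · have := LinearMap.finrank_range_add_finrank_ker ((L.map φ).f i)
        rw [Module.finrank_fin_fun] at this
        omega
  · obtain ⟨k1, k2⟩ := h2 i hi
    constructor
    · rw [inf_comm]
      apply Submodule.finrank_eq_zero.1
      have e1 := Lk.rk_add_ker (f := (L.map φ).f (i + 1)) (LinearMap.range ((L.map φ).f i))
      have e2 := Lk.rk_add_ker (f := L.f (i + 1)) (LinearMap.range (L.f i))
      rw [inf_comm] at k1
      rw [k1, finrank_bot] at e2
      have e3 : Module.finrank F (Submodule.map ((L.map φ).f (i + 1)) (LinearMap.range ((L.map φ).f i))) =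
          Module.finrank K (Submodule.map (L.f (i + 1)) (LinearMap.range (L.f i))) := by
        rw [LinearMap.range_eq_map, LinearMap.range_eq_map, ← push_top φ, Lk.map_push_f, Lk.map_push_f, finrank_push]
      have e4 := finrank_range_f L φ i
      omega
    · rw [inf_comm]
      apply Submodule.finrank_eq_zero.1
      have e1 := Lk.rk_add_ker (f := (L.map φ).g i) (LinearMap.range ((L.map φ).g (i + 1)))
      have e2 := Lk.rk_add_ker (f := L.g i) (LinearMap.range (L.g (i + 1)))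
      rw [inf_comm] at k2
      rw [k2, finrank_bot] at e2
      have e3 : Module.finrank F (Submodule.map ((L.map φ).g i) (LinearMap.range ((L.map φ).g (i + 1)))) =
          Module.finrank K (Submodule.map (L.g i) (LinearMap.range (L.g (i + 1)))) := by
        rw [LinearMap.range_eq_map, LinearMap.range_eq_map, ← push_top φ, Lk.map_push_g, Lk.map_push_g, finrank_push]
      have e4 := finrank_range_g L φ (i + 1)
      omega

/-- On a chart the ranks are constant. -/
theorem pRk_chartV {K : Type u} [Field K] (L : Lk K d n) (hs : L.s = 0) (σ : CD d r n) {c : σ.Crd → K}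
    (hu : ∀ m ≤ n, IsUnit (L.delta σ c m)) {i : ℕ} (hi : i < n) :
    L.pRk (L.chartV σ c) i = Fintype.card {l : Fin r // σ.lv l ≤ i} := by
  have hmap : Submodule.map (L.f i) (L.chartV σ c i) =
      Submodule.span K (Set.range fun l : {l : Fin r // σ.lv l ≤ i} => L.rows σ c (i + 1) l.1) := by
    rw [Lk.chartV, Submodule.map_span]
    refine le_antisymm (Submodule.span_le.2 ?_) (Submodule.span_le.2 ?_)
    · rintro _ ⟨_, ⟨l, rfl⟩, rfl⟩
      show L.f i (L.W i (σ.lv l) (σ.vec c l)) ∈ _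
      rw [L.f_W hi]
      by_cases hl : σ.lv l ≤ i
      · rw [if_pos hl, one_smul]
        exact Submodule.subset_span ⟨⟨l, hl⟩, rfl⟩
      · rw [if_neg hl, hs, zero_smul]
        exact zero_mem _
    · rintro _ ⟨⟨l, hl⟩, rfl⟩
      refine Submodule.subset_span ⟨_, ⟨l, rfl⟩, ?_⟩
      show L.f i (L.W i (σ.lv l) (σ.vec c l)) = L.W (i + 1) (σ.lv l) (σ.vec c l)
      rw [L.f_W hi, if_pos hl, one_smul]
  rw [Lk.pRk, hmap]
  exact finrank_span_eq_card ((linearIndependent_of_detJ (hu (i + 1) (by omega))).comp _ Subtype.val_injective)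

section General

variable {k : Type u} [CommRing k] {f g : Fin n → ((Fin d → k) →ₗ[k] (Fin d → k))} {s : k}
  {hI : ∀ i, (f i).comp (g i) = s • LinearMap.id ∧ (g i).comp (f i) = s • LinearMap.id}
  {X : Over (Spec (CommRingCat.of k))} (D : Rep d r n f g s hI X)

/-- Exactness at a point of the scheme. -/
def Rep.Ex (x : X.left) : Prop := (D.L (kap X x)).Exact (D.V (kapPt X x))

/-- The rank of `f i` at a point. -/
noncomputable def Rep.pAt (x : X.left) (i : ℕ) : ℕ := (D.L (kap X x)).pRk (D.V (kapPt X x)) i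

/-- The rank of `g i` at a point. -/
noncomputable def Rep.qAt (x : X.left) (i : ℕ) : ℕ := (D.L (kap X x)).qRk (D.V (kapPt X x)) i


/-- Field-valued points have the ranks of their image. -/
theorem Rep.rk_eq (K : Type u) [Field K] [Algebra k K] (p : pt (CommAlgCat.of k K) ⟶ X)
    (z : (pt (CommAlgCat.of k K)).left) (i : ℕ) :
    (D.L K).pRk (D.V p) i = D.pAt (p.left z) i ∧ (D.L K).qRk (D.V p) i = D.qAt (p.left z) i := by
  obtain ⟨φ, hφ⟩ := exists_kap_hom K p z
  have hV : D.V p = fun m => push φ.hom.toRingHom (D.V (kapPt X (p.left z)) m) := funext fun m => by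
    conv_lhs => rw [hφ]
    exact D.V_ptMap φ _ m
  have hL : D.L K = (D.L (kap X (p.left z))).map φ.hom.toRingHom := (Lk.at_map _ φ.hom).symm
  exact ⟨by rw [hV, hL]; exact pRk_push _ _ _ i, by rw [hV, hL]; exact qRk_push _ _ _ i⟩

/-- A family gives a generization at which the ranks can only grow. -/
theorem Rep.exists_gen (x : X.left) (B : ℕ → Fin r → Fin d → PowerSeries (kap X x))
    (hB : Lk.Fam (D.L (kap X x)) r (D.V (kapPt X x)) B) :
    ∃ y : X.left, y ⤳ x ∧ ∀ i, i < n →
      (D.pAt y i = ((D.L (kap X x)).map (Lk.toGen (kap X x))).pRk (Lk.gen B) i ∧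
        D.qAt y i = ((D.L (kap X x)).map (Lk.toGen (kap X x))).qRk (Lk.gen B) i) ∧
      D.pAt x i ≤ D.pAt y i ∧ D.qAt x i ≤ D.qAt y i := by
  obtain ⟨hB1, hB2, hB3⟩ := hB
  let K := kap X x
  let A := PowerSeries K
  let F := FractionRing A
  let C : (K : Type u) →+* A := PowerSeries.C
  have hC : (D.L K).map C = D.L A := by
    rw [Lk.map_map]
    exact congrArg _ (RingHom.ext fun c =>
      (PowerSeries.algebraMap_apply (R := k) (A := (K : Type u)) (r := c)).symm)
  have hCF : (D.L K).map (Lk.toGen K) = D.L F := by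
    rw [Lk.map_map]
    exact congrArg _ (RingHom.ext fun c => ((IsScalarTower.algebraMap_apply k A F c).trans
      (congrArg (algebraMap A F) (PowerSeries.algebraMap_apply (R := k) (A := (K : Type u)) (r := c)))).symm)
  let W : ℕ → Submodule A (Fin d → A) := fun m => Submodule.span A (Set.range (B m))
  obtain ⟨p, hp⟩ := D.exists_pt (A := CommAlgCat.of k A) (W := W) (by rw [← hC] ; exact hB2) fun m hm => by
    obtain ⟨J, hJ, hu⟩ := hB1 m hm
    exact isGr_span hJ hu
  let π₀ : A →ₐ[k] (K : Type u) := AlgHom.mk (R := k) (A := A) (B := (K : Type u))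
    (PowerSeries.constantCoeff : A →+* (K : Type u)) fun c =>
      (congrArg PowerSeries.constantCoeff (PowerSeries.algebraMap_apply (R := k) (A := (K : Type u)) (r := c))).trans
        (PowerSeries.constantCoeff_C _)
  let π : CommAlgCat.of k A ⟶ CommAlgCat.of k (K : Type u) := CommAlgCat.ofHom π₀
  let ι : CommAlgCat.of k A ⟶ CommAlgCat.of k F := CommAlgCat.ofHom (IsScalarTower.toAlgHom k A F)
  have hcl : ptMap π ≫ p = kapPt X x := D.ext fun m hm => by
    rw [D.V_ptMap, hp m hm]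
    exact hB3 m hm
  obtain ⟨z⟩ : Nonempty (pt K).left := inferInstanceAs (Nonempty (PrimeSpectrum K))
  obtain ⟨w⟩ : Nonempty (pt (CommAlgCat.of k F)).left := inferInstanceAs (Nonempty (PrimeSpectrum F))
  refine ⟨(ptMap ι ≫ p).left w, ?_, fun i hi => ?_⟩
  · have h1 : (ptMap π ≫ p).left z = x := by rw [hcl]; exact kapPt_apply x z
    refine Specializes.trans ?_ (specializes_of_eq h1)
    show p.left ((ptMap ι).left w) ⤳ p.left ((ptMap π).left z)
    refine Specializes.map ?_ p.left.continuous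
    have hle : PrimeSpectrum.comap (algebraMap A F) w ≤ PrimeSpectrum.comap π.hom.toRingHom z := by
      intro a ha
      have hw : (w : PrimeSpectrum F).asIdeal = ⊥ :=
        (Ideal.eq_bot_or_top _).resolve_right (w : PrimeSpectrum F).2.ne_top
      change algebraMap A F a ∈ (w : PrimeSpectrum F).asIdeal at ha
      rw [hw, Ideal.mem_bot, map_eq_zero_iff _ (IsFractionRing.injective A F)] at ha
      rw [ha]
      exact Ideal.zero_mem _
    exact (PrimeSpectrum.le_iff_specializes _ _).1 hle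
  · obtain ⟨e1, e2⟩ := D.rk_eq F (ptMap ι ≫ p) w i
    have hV : ∀ m ≤ n, D.V (ptMap ι ≫ p) m = Lk.gen B m := fun m hm => by
      rw [D.V_ptMap, hp m hm]
      rfl
    have f1 : D.pAt ((ptMap ι ≫ p).left w) i = ((D.L K).map (Lk.toGen K)).pRk (Lk.gen B) i := by
      rw [← e1, hCF, Lk.pRk, Lk.pRk, hV i (by omega)]
    have f2 : D.qAt ((ptMap ι ≫ p).left w) i = ((D.L K).map (Lk.toGen K)).qRk (Lk.gen B) i := by
      rw [← e2, hCF, Lk.qRk, Lk.qRk, hV (i + 1) (by omega)]
    refine ⟨⟨f1, f2⟩, ?_, ?_⟩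
    · rw [f1, Lk.pRk, show (D.L K).map (Lk.toGen K) = ((D.L K).map C).map (algebraMap A F) from (Lk.map_map _ _ _).symm,
        Lk.gen, Lk.map_push_f]
      refine le_trans (le_of_eq ?_) (finrank_push_le (PowerSeries.constantCoeff : A →+* K)
        (fun c => ⟨PowerSeries.C c, PowerSeries.constantCoeff_C c⟩) _ (IsFractionRing.injective A F) _)
      rw [← Lk.map_push_f, hB3 i (by omega), Lk.map_map]
      rw [show ((PowerSeries.constantCoeff : A →+* K).comp C) = RingHom.id K from RingHom.ext fun c => PowerSeries.constantCoeff_C c,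
        Lk.map_map, RingHom.id_comp]
      rfl
    · rw [f2, Lk.qRk, show (D.L K).map (Lk.toGen K) = ((D.L K).map C).map (algebraMap A F) from (Lk.map_map _ _ _).symm,
        Lk.gen, Lk.map_push_g]
      refine le_trans (le_of_eq ?_) (finrank_push_le (PowerSeries.constantCoeff : A →+* K)
        (fun c => ⟨PowerSeries.C c, PowerSeries.constantCoeff_C c⟩) _ (IsFractionRing.injective A F) _)
      rw [← Lk.map_push_g, hB3 (i + 1) (by omega), Lk.map_map]
      rw [show ((PowerSeries.constantCoeff : A →+* K).comp C) = RingHom.id K from RingHom.ext fun c => PowerSeries.constantCoeff_C c,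
        Lk.map_map, RingHom.id_comp]
      rfl

theorem lkOf_f (i : ℕ) (hi : i < n) : (lkOf f g s hI).f i = f ⟨i, hi⟩ := dif_pos hi

theorem lkOf_g (i : ℕ) (hi : i < n) : (lkOf f g s hI).g i = g ⟨i, hi⟩ := dif_pos hi

end General

variable {k : Type u} [Field k] {f g : Fin n → ((Fin d → k) →ₗ[k] (Fin d → k))} {s : k}
  {hI : ∀ i, (f i).comp (g i) = s • LinearMap.id ∧ (g i).comp (f i) = s • LinearMap.id}
  {X : Over (Spec (CommRingCat.of k))} (D : Rep d r n f g s hI X)

/-- The hypotheses of the statements. -/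
structure Hyp (r : ℕ) (f g : Fin n → ((Fin d → k) →ₗ[k] (Fin d → k))) : Prop where
  hrd : r < d
  hII : ∀ i, d ≤ Module.finrank k (LinearMap.range (f i)) + Module.finrank k (LinearMap.range (g i))
  hIII : ∀ i j : Fin n, i.val + 1 = j.val → LinearMap.range (f i) ⊓ LinearMap.ker (f j) = ⊥ ∧
    LinearMap.range (g j) ⊓ LinearMap.ker (g i) = ⊥

theorem Rep.nice (D : Rep d r n f g s hI X) (H : Hyp r f g) (A : Type u) [Field A] [Algebra k A] : (D.L A).Nice := by
  refine nice_map _ _ (fun i hi => ?_) (fun i hi => ?_)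
  · rw [lkOf_f i hi, lkOf_g i hi]
    exact H.hII ⟨i, hi⟩
  · have hi' : i < n := by omega
    rw [lkOf_f i hi', lkOf_g i hi', lkOf_f (i + 1) hi, lkOf_g (i + 1) hi]
    exact H.hIII ⟨i, hi'⟩ ⟨i + 1, hi⟩ rfl

theorem Rep.s_eq (D : Rep d r n f g s hI X) (A : Type u) [Field A] [Algebra k A] : (D.L A).s = 0 ↔ s = 0 := by
  show algebraMap k A s = 0 ↔ s = 0
  exact map_eq_zero _

theorem Rep.isPt' (H : Hyp r f g) (K : Type u) [Field K] [Algebra k K] (p : pt (CommAlgCat.of k K) ⟶ X) :
    (D.L K).IsPt r (D.V p) :=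
  ⟨D.linked p, fun m _ => finrank_eq_of_isGr H.hrd.le (D.isGr p m)⟩

theorem Rep.isPt_kap (H : Hyp r f g) (x : X.left) : (D.L (kap X x)).IsPt r (D.V (kapPt X x)) :=
  ⟨D.linked _, fun m _ => finrank_eq_of_isGr H.hrd.le (D.isGr _ m)⟩

theorem Rep.ex_iff (H : Hyp r f g) (x : X.left) :
    D.Ex x ↔ (s ≠ 0 ∨ ∀ i < n, D.pAt x i + D.qAt x i = r) := by
  by_cases hs : s = 0
  · simp only [ne_eq, hs, not_true_eq_false, false_or]
    exact Lk.exact_iff ((D.s_eq _).2 hs) (D.isPt_kap H x)
  · exact iff_of_true (Lk.exact_of_ne_zero (fun h => hs ((D.s_eq _).1 h)) _) (Or.inl hs)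

theorem Rep.exact_iff_ex (H : Hyp r f g) (K : Type u) [Field K] [Algebra k K] (p : pt (CommAlgCat.of k K) ⟶ X)
    (z : (pt (CommAlgCat.of k K)).left) : (D.L K).Exact (D.V p) ↔ D.Ex (p.left z) := by
  rw [D.ex_iff H]
  by_cases hs : s = 0
  · simp only [ne_eq, hs, not_true_eq_false, false_or]
    rw [Lk.exact_iff ((D.s_eq _).2 hs) (D.isPt' H K p)]
    exact forall₂_congr fun i _ => by rw [(D.rk_eq K p z i).1, (D.rk_eq K p z i).2]
  · exact iff_of_true (Lk.exact_of_ne_zero (fun h => hs ((D.s_eq _).1 h)) _) (Or.inl hs)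

/-- Exact points are the points of the charts. -/
theorem Rep.ex_iff_exists_chart (H : Hyp r f g) (x : X.left) :
    D.Ex x ↔ ∃ σ : CD d r n, x ∈ Set.range (D.jU σ).left := by
  refine ⟨fun h => ?_, ?_⟩
  · obtain ⟨σ, hσ⟩ := Lk.exists_chart H.hrd.le (D.nice H (kap X x)) (D.isPt_kap H x) h
    exact ⟨σ, (mem_range_jU_iff D σ x).2 hσ⟩
  · rintro ⟨σ, hσ⟩
    obtain ⟨c, hu, hc⟩ := (mem_range_jU_iff D σ x).1 hσ
    intro i hi
    have h := (D.L (kap X x)).exact_chartV σ hu i hi
    rw [← hc i (by omega), ← hc (i + 1) (by omega)] at h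
    exact h

theorem Rep.isOpen_ex (H : Hyp r f g) : IsOpen {x | D.Ex x} := by
  have : {x | D.Ex x} = ⋃ σ : CD d r n, Set.range (D.jU σ).left := by
    ext x
    exact (D.ex_iff_exists_chart H x).trans Set.mem_iUnion.symm
  rw [this]
  exact isOpen_iUnion fun σ => (isOpenImmersion_jU D σ).base_open.isOpen_range

theorem Rep.pAt_chart (hs : s = 0) (σ : CD d r n) (x : X.left) (hx : x ∈ Set.range (D.jU σ).left) {i : ℕ}
    (hi : i < n) : D.pAt x i = Fintype.card {l : Fin r // σ.lv l ≤ i} := by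
  obtain ⟨c, hu, hc⟩ := (mem_range_jU_iff D σ x).1 hx
  rw [← pRk_chartV _ ((D.s_eq _).2 hs) σ hu hi, Rep.pAt, Lk.pRk, Lk.pRk, hc i (by omega)]

theorem Rep.rk_le_at (H : Hyp r f g) (hs : s = 0) (x : X.left) {i : ℕ} (hi : i < n) :
    D.pAt x i + D.qAt x i ≤ r :=
  Lk.rk_le ((D.s_eq _).2 hs) (D.isPt_kap H x) hi

/-- Where exactness fails, `f` can gain rank. -/
theorem Rep.gen_left (H : Hyp r f g) (hs : s = 0) (x : X.left) {i : ℕ} (hi : i < n)
    (hlt : D.pAt x i + D.qAt x i < r) :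
    ∃ y : X.left, y ⤳ x ∧ D.pAt x i + 1 ≤ D.pAt y i ∧
      ∀ j < n, D.pAt x j ≤ D.pAt y j ∧ D.qAt x j ≤ D.qAt y j := by
  obtain ⟨B, hB, hp, -⟩ := Lk.deform_left ((D.s_eq _).2 hs) (D.nice H (kap X x)) (D.isPt_kap H x) hi hlt
  obtain ⟨y, hy, h⟩ := D.exists_gen x B hB
  exact ⟨y, hy, hp.trans (le_of_eq (h i hi).1.1.symm), fun j hj => (h j hj).2⟩

/-- Where exactness fails, `g` can gain rank with the rank of `f` fixed. -/
theorem Rep.gen_right (H : Hyp r f g) (hs : s = 0) (x : X.left) {i : ℕ} (hi : i < n)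
    (hlt : D.pAt x i + D.qAt x i < r) :
    ∃ y : X.left, y ⤳ x ∧ D.qAt x i + 1 ≤ D.qAt y i ∧ D.pAt y i = D.pAt x i ∧
      ∀ j < n, D.pAt x j ≤ D.pAt y j ∧ D.qAt x j ≤ D.qAt y j := by
  obtain ⟨B, hB, hq, hconst⟩ := Lk.deform_right ((D.s_eq _).2 hs) (D.nice H (kap X x)) (D.isPt_kap H x) hi hlt
  obtain ⟨y, hy, h⟩ := D.exists_gen x B hB
  refine ⟨y, hy, hq.trans (le_of_eq (h i hi).1.2.symm), ?_, fun j hj => (h j hj).2⟩
  rw [(h i hi).1.1, Rep.pAt, Lk.pRk, Lk.pRk, hconst i le_rfl, Lk.map_push_f, finrank_push]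

/-- Every point specializes from an exact point with larger ranks. -/
theorem Rep.exists_ex_gen (H : Hyp r f g) (x : X.left) :
    ∃ y : X.left, y ⤳ x ∧ D.Ex y ∧ ∀ j < n, D.pAt x j ≤ D.pAt y j ∧ D.qAt x j ≤ D.qAt y j := by
  by_cases hs : s = 0
  swap
  · exact ⟨x, specializes_rfl, (D.ex_iff H x).2 (Or.inl hs), fun j _ => ⟨le_rfl, le_rfl⟩⟩
  suffices ∀ (N : ℕ) (x : X.left), n * r - ∑ j ∈ Finset.range n, (D.pAt x j + D.qAt x j) ≤ N →
      ∃ y : X.left, y ⤳ x ∧ D.Ex y ∧ ∀ j < n, D.pAt x j ≤ D.pAt y j ∧ D.qAt x j ≤ D.qAt y j from this _ x le_rfl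
  intro N
  induction N with
  | zero =>
    intro x hx
    refine ⟨x, specializes_rfl, (D.ex_iff H x).2 (Or.inr fun i hi => ?_), fun j _ => ⟨le_rfl, le_rfl⟩⟩
    by_contra hne
    have hlt : D.pAt x i + D.qAt x i < r := lt_of_le_of_ne (D.rk_le_at H hs x hi) hne
    have : ∑ j ∈ Finset.range n, (D.pAt x j + D.qAt x j) < ∑ j ∈ Finset.range n, r :=
      Finset.sum_lt_sum (fun j hj => D.rk_le_at H hs x (Finset.mem_range.1 hj)) ⟨i, Finset.mem_range.2 hi, hlt⟩
    rw [Finset.sum_const, Finset.card_range, smul_eq_mul] at this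
    omega
  | succ N ih =>
    intro x hx
    by_cases hex : D.Ex x
    · exact ⟨x, specializes_rfl, hex, fun j _ => ⟨le_rfl, le_rfl⟩⟩
    rw [D.ex_iff H] at hex
    simp only [ne_eq, hs, not_true_eq_false, false_or, not_forall] at hex
    obtain ⟨i, hi, hne⟩ := hex
    obtain ⟨y, hy, hgain, hmono⟩ := D.gen_left H hs x hi (lt_of_le_of_ne (D.rk_le_at H hs x hi) hne)
    have hlt : ∑ j ∈ Finset.range n, (D.pAt x j + D.qAt x j) < ∑ j ∈ Finset.range n, (D.pAt y j + D.qAt y j) :=
      Finset.sum_lt_sum (fun j hj => by have := hmono j (Finset.mem_range.1 hj); omega)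
        ⟨i, Finset.mem_range.2 hi, by have := hmono i hi; omega⟩
    have hle : ∑ j ∈ Finset.range n, (D.pAt y j + D.qAt y j) ≤ ∑ j ∈ Finset.range n, r :=
      Finset.sum_le_sum fun j hj => D.rk_le_at H hs y (Finset.mem_range.1 hj)
    rw [Finset.sum_const, Finset.card_range, smul_eq_mul] at hle
    obtain ⟨w, hw, hwe, hwm⟩ := ih y (by omega)
    exact ⟨w, hw.trans hy, hwe, fun j hj => ⟨(hmono j hj).1.trans (hwm j hj).1, (hmono j hj).2.trans (hwm j hj).2⟩⟩

/-- At a point where exactness fails there are two exact generizations with different ranks. -/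
theorem Rep.exists_two_gen (H : Hyp r f g) (hs : s = 0) (x : X.left) (hx : ¬ D.Ex x) :
    ∃ i, i < n ∧ ∃ y₁ y₂ : X.left, y₁ ⤳ x ∧ y₂ ⤳ x ∧ D.Ex y₁ ∧ D.Ex y₂ ∧ D.pAt y₁ i ≠ D.pAt y₂ i := by
  rw [D.ex_iff H] at hx
  simp only [ne_eq, hs, not_true_eq_false, false_or, not_forall] at hx
  obtain ⟨i, hi, hne⟩ := hx
  have hlt := lt_of_le_of_ne (D.rk_le_at H hs x hi) hne
  obtain ⟨y, hy, hgain, -⟩ := D.gen_left H hs x hi hlt
  obtain ⟨y₁, hy₁, he₁, hm₁⟩ := D.exists_ex_gen H y
  have hfix : ∀ (N : ℕ) (z : X.left), r - (D.pAt z i + D.qAt z i) ≤ N →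
      ∃ w : X.left, w ⤳ z ∧ D.pAt w i = D.pAt z i ∧ D.pAt w i + D.qAt w i = r := by
    intro N
    induction N with
    | zero => exact fun z hz => ⟨z, specializes_rfl, rfl, by have := D.rk_le_at H hs z hi; omega⟩
    | succ N ih =>
      intro z hz
      by_cases hez : D.pAt z i + D.qAt z i = r
      · exact ⟨z, specializes_rfl, rfl, hez⟩
      obtain ⟨w, hw, hq, hp, -⟩ := D.gen_right H hs z hi (lt_of_le_of_ne (D.rk_le_at H hs z hi) hez)
      obtain ⟨w', hw', hp', hr'⟩ := ih w (by omega)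
      exact ⟨w', hw'.trans hw, hp'.trans hp, hr'⟩
  obtain ⟨z, hz, hzp, hzr⟩ := hfix r x (by omega)
  obtain ⟨y₂, hy₂, he₂, hm₂⟩ := D.exists_ex_gen H z
  refine ⟨i, hi, y₁, y₂, hy₁.trans hy, hy₂.trans hz, he₁, he₂, ?_⟩
  have := hm₁ i hi
  have := hm₂ i hi
  have := D.rk_le_at H hs y₂ hi
  omega

end Groth.Agent.LinkGr22
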