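import Groth.Agent.LinkGr22.Field
import Groth.Agent.GrassLib.OverPoints
import Mathlib.AlgebraicGeometry.ResidueField

/-!
# Points of a scheme representing the linked Grassmannian
-/

set_option autoImplicit false
set_option linter.unusedSectionVars false
set_option linter.style.haveILetI false
set_option backward.isDefEq.respectTransparency.types false

universe u

open CategoryTheory CategoryTheory.Limits AlgebraicGeometry TensorProduct
open Groth.Agent.GrassLib W4c1limliniiii

namespace Groth.Agent.LinkGr22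

variable {R : Type u} [CommRing R] {d r n : ℕ}

/-- The chain given by the data. -/
noncomputable def lkOf (f g : Fin n → ((Fin d → R) →ₗ[R] (Fin d → R))) (s : R)
    (hI : ∀ i, (f i).comp (g i) = s • LinearMap.id ∧ (g i).comp (f i) = s • LinearMap.id) : Lk R d n where
  f i := if h : i < n then f ⟨i, h⟩ else 0
  g i := if h : i < n then g ⟨i, h⟩ else 0
  s := s
  hgf i hi v := by
    simp only [dif_pos hi]
    exact LinearMap.congr_fun (hI ⟨i, hi⟩).2 v
  hfg i hi v := by
    simp only [dif_pos hi]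
    exact LinearMap.congr_fun (hI ⟨i, hi⟩).1 v

/-- Base change of a chain to an algebra. -/
noncomputable abbrev Lk.at' (L : Lk R d n) (A : Type u) [CommRing A] [Algebra R A] : Lk A d n :=
  L.map (algebraMap R A)

theorem Lk.at_map (L : Lk R d n) {A B : Type u} [CommRing A] [Algebra R A] [CommRing B] [Algebra R B]
    (φ : A →ₐ[R] B) : (L.at' A).map φ.toRingHom = L.at' B := by
  rw [Lk.map_map]
  exact congrArg L.map φ.comp_algebraMap

/-- A tuple of Grassmannian points in coordinates. -/
noncomputable def coV {A : Type u} [CommRing A] [Algebra R A] {k : ℕ}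
    (P : Fin (n + 1) → Module.Grassmannian A (A ⊗[R] (Fin d → R)) k) (m : ℕ) : Submodule A (Fin d → A) :=
  co (P ⟨min m n, by omega⟩)

theorem coV_of_le {A : Type u} [CommRing A] [Algebra R A] {k : ℕ}
    (P : Fin (n + 1) → Module.Grassmannian A (A ⊗[R] (Fin d → R)) k) (i : Fin (n + 1)) : coV P i.1 = co (P i) := by
  rw [coV]
  congr 2
  exact Fin.ext (min_eq_left (Nat.le_of_lt_succ i.2))

variable {f g : Fin n → ((Fin d → R) →ₗ[R] (Fin d → R))} {s : R}
  {hI : ∀ i, (f i).comp (g i) = s • LinearMap.id ∧ (g i).comp (f i) = s • LinearMap.id}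

theorem at_f (A : Type u) [CommRing A] [Algebra R A] (i : Fin n) :
    ((lkOf f g s hI).at' A).f i.1 = fA (f i) A := by
  show ((LinearMap.toMatrix' (dite _ _ _)).map _).mulVecLin = _
  rw [dif_pos i.2]
  rfl

theorem at_g (A : Type u) [CommRing A] [Algebra R A] (i : Fin n) :
    ((lkOf f g s hI).at' A).g i.1 = fA (g i) A := by
  show ((LinearMap.toMatrix' (dite _ _ _)).map _).mulVecLin = _
  rw [dif_pos i.2]
  rfl

variable (hI) in
theorem mem_LGPoints_iff {A : Type u} [CommRing A] [Algebra R A]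
    (P : Fin (n + 1) → Module.Grassmannian A (A ⊗[R] (Fin d → R)) (d - r)) :
    P ∈ LGPoints R d r n f g A ↔ ((lkOf f g s hI).at' A).Linked (coV P) := by
  refine ⟨fun h i hi => ?_, fun h i => ?_⟩
  · rw [at_f A ⟨i, hi⟩, at_g A ⟨i, hi⟩]
    have e1 := coV_of_le P (⟨i, hi⟩ : Fin n).castSucc
    have e2 := coV_of_le P (⟨i, hi⟩ : Fin n).succ
    simp only [Fin.val_castSucc, Fin.val_succ] at e1 e2
    rw [e1, e2]
    exact ⟨(map_baseChange_le_iff _ _ _).1 (h ⟨i, hi⟩).1, (map_baseChange_le_iff _ _ _).1 (h ⟨i, hi⟩).2⟩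
  · have h' := h i.1 i.2
    rw [at_f A i, at_g A i] at h'
    have e1 := coV_of_le P i.castSucc
    have e2 := coV_of_le P i.succ
    simp only [Fin.val_castSucc, Fin.val_succ] at e1 e2
    rw [e1, e2] at h'
    exact ⟨(map_baseChange_le_iff _ _ _).2 h'.1, (map_baseChange_le_iff _ _ _).2 h'.2⟩

variable (hI) in
theorem isExact_iff {A : Type u} [CommRing A] [Algebra R A]
    (P : Fin (n + 1) → Module.Grassmannian A (A ⊗[R] (Fin d → R)) (d - r)) :
    IsExact R d r n f g A P ↔ ((lkOf f g s hI).at' A).Exact (coV P) := by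
  refine ⟨fun h i hi => ?_, fun h i => ?_⟩
  · rw [at_f A ⟨i, hi⟩, at_g A ⟨i, hi⟩]
    have e1 := coV_of_le P (⟨i, hi⟩ : Fin n).castSucc
    have e2 := coV_of_le P (⟨i, hi⟩ : Fin n).succ
    simp only [Fin.val_castSucc, Fin.val_succ] at e1 e2
    rw [e1, e2]
    exact ⟨(ker_inf_le_iff _ _ _ _).1 (h ⟨i, hi⟩).1, (ker_inf_le_iff _ _ _ _).1 (h ⟨i, hi⟩).2⟩
  · have h' := h i.1 i.2
    rw [at_f A i, at_g A i] at h'
    have e1 := coV_of_le P i.castSucc
    have e2 := coV_of_le P i.succ
    simp only [Fin.val_castSucc, Fin.val_succ] at e1 e2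
    rw [e1, e2] at h'
    exact ⟨(ker_inf_le_iff _ _ _ _).2 h'.1, (ker_inf_le_iff _ _ _ _).2 h'.2⟩

/-- A scheme with the linked Grassmannian as points. -/
structure Rep (d r n : ℕ) (f g : Fin n → ((Fin d → R) →ₗ[R] (Fin d → R))) (s : R)
    (hI : ∀ i, (f i).comp (g i) = s • LinearMap.id ∧ (g i).comp (f i) = s • LinearMap.id)
    (X : Over (Spec (CommRingCat.of R))) where
  e : ∀ A : CommAlgCat.{u} R, (pt A ⟶ X) ≃ LGPoints R d r n f g A
  he : ∀ (A B : CommAlgCat.{u} R) (φ : A ⟶ B) (x : pt A ⟶ X) (x' : pt B ⟶ X),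
    x'.left = Spec.map (CommRingCat.ofHom φ.hom.toRingHom) ≫ x.left →
      ∀ i, (e B x').1 i = Module.Grassmannian.map φ.hom ((e A x).1 i)

variable {X : Over (Spec (CommRingCat.of R))} (D : Rep d r n f g s hI X)

/-- The chain over an algebra. -/
noncomputable abbrev Rep.L (_D : Rep d r n f g s hI X) (A : Type u) [CommRing A] [Algebra R A] : Lk A d n :=
  (lkOf f g s hI).at' A

/-- The submodules of a point. -/
noncomputable def Rep.V {A : CommAlgCat.{u} R} (p : pt A ⟶ X) (m : ℕ) : Submodule A (Fin d → A) :=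
  coV (D.e A p).1 m

theorem Rep.linked {A : CommAlgCat.{u} R} (p : pt A ⟶ X) : (D.L A).Linked (D.V p) :=
  (mem_LGPoints_iff hI _).1 (D.e A p).2

theorem Rep.isGr {A : CommAlgCat.{u} R} (p : pt A ⟶ X) (m : ℕ) : IsGr (d - r) (D.V p m) := isGr_co _

theorem Rep.V_comp {A B : CommAlgCat.{u} R} (φ : A ⟶ B) (p : pt A ⟶ X) (p' : pt B ⟶ X)
    (h : p'.left = Spec.map (CommRingCat.ofHom φ.hom.toRingHom) ≫ p.left) (m : ℕ) :
    D.V p' m = push φ.hom.toRingHom (D.V p m) := by
  show co ((D.e B p').1 _) = _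
  rw [D.he A B φ p p' h, co_map]
  rfl

theorem Rep.ext {A : CommAlgCat.{u} R} {p p' : pt A ⟶ X} (h : ∀ m ≤ n, D.V p m = D.V p' m) : p = p' := by
  refine (D.e A).injective (Subtype.ext (funext fun i => co_injective ?_))
  rw [← coV_of_le, ← coV_of_le]
  exact h i.1 (Nat.le_of_lt_succ i.2)

theorem Rep.exists_pt {A : CommAlgCat.{u} R} {W : ℕ → Submodule A (Fin d → A)} (hW : (D.L A).Linked W)
    (hgr : ∀ m ≤ n, IsGr (d - r) (W m)) : ∃ p : pt A ⟶ X, ∀ m ≤ n, D.V p m = W m := by
  choose P hP using fun i : Fin (n + 1) => exists_co_eq (R := R) (hgr i.1 (Nat.le_of_lt_succ i.2))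
  have e : ∀ m ≤ n, coV P m = W m := fun m hm => by
    rw [coV, hP]
    exact congrArg W (min_eq_left hm)
  have hmem : P ∈ LGPoints R d r n f g A := (mem_LGPoints_iff hI P).2 fun i hi => by
    rw [e i (by omega), e (i + 1) (by omega)]
    exact hW i hi
  refine ⟨(D.e A).symm ⟨P, hmem⟩, fun m hm => ?_⟩
  rw [Rep.V, Equiv.apply_symm_apply]
  exact e m hm

/-- Homomorphisms between spectra over the base are algebra maps. -/
theorem exists_algHom {A B : CommAlgCat.{u} R} (h : pt B ⟶ pt A) :
    ∃ φ : A ⟶ B, h.left = Spec.map (CommRingCat.ofHom φ.hom.toRingHom) := by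
  obtain ⟨ψ, hψ⟩ := Spec.map_surjective h.left
  have hc : CommRingCat.ofHom (algebraMap R A) ≫ ψ = CommRingCat.ofHom (algebraMap R B) := by
    refine Spec.map_injective ?_
    rw [Spec.map_comp, hψ]
    exact Over.w h
  exact ⟨CommAlgCat.ofHom { ψ.hom with commutes' := fun r => ConcreteCategory.congr_hom hc r }, hψ.symm⟩

/-- The morphism of spectra of an algebra map. -/
noncomputable def ptMap {A B : CommAlgCat.{u} R} (φ : A ⟶ B) : pt B ⟶ pt A :=
  Over.homMk (Spec.map (CommRingCat.ofHom φ.hom.toRingHom)) (by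
    show Spec.map _ ≫ Spec.map _ = Spec.map _
    rw [← Spec.map_comp, ← CommRingCat.ofHom_comp]
    exact congrArg (fun r => Spec.map (CommRingCat.ofHom r)) φ.hom.comp_algebraMap)

theorem Rep.V_ptMap {A B : CommAlgCat.{u} R} (φ : A ⟶ B) (p : pt A ⟶ X) (m : ℕ) :
    D.V (ptMap φ ≫ p) m = push φ.hom.toRingHom (D.V p m) :=
  D.V_comp φ p _ rfl m

/-- The residue field at a point as an algebra over the base. -/
noncomputable def kap (X : Over (Spec (CommRingCat.of R))) (x : X.left) : CommAlgCat.{u} R :=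
  letI : Algebra R (X.left.residueField x) := (Spec.preimage (X.left.fromSpecResidueField x ≫ X.hom)).hom.toAlgebra
  CommAlgCat.of R (X.left.residueField x)

noncomputable instance (x : X.left) : Field (kap X x) := inferInstanceAs (Field (X.left.residueField x))

/-- The point with values in the residue field. -/
noncomputable def kapPt (X : Over (Spec (CommRingCat.of R))) (x : X.left) : pt (kap X x) ⟶ X :=
  Over.homMk (X.left.fromSpecResidueField x) (by
    show X.left.fromSpecResidueField x ≫ X.hom = Spec.map _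
    exact (Spec.map_preimage _).symm)

/-- A point with values in a field comes from the residue field at its image. -/
theorem exists_kap_hom (K : Type u) [Field K] [Algebra R K] (p : pt (CommAlgCat.of R K) ⟶ X)
    (z : (pt (CommAlgCat.of R K)).left) :
    ∃ φ : kap X (p.left z) ⟶ CommAlgCat.of R K, p = ptMap φ ≫ kapPt X (p.left z) := by
  let q : Spec (CommRingCat.of K) ⟶ X.left := p.left
  have hz : ∀ w : Spec (CommRingCat.of K), w = IsLocalRing.closedPoint K := fun w =>
    Subsingleton.elim (α := PrimeSpectrum K) _ _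
  have hz' : p.left z = q (IsLocalRing.closedPoint K) := congrArg q (hz z)
  rw [hz']
  let x := q (IsLocalRing.closedPoint K)
  let ψ : X.left.residueField x ⟶ CommRingCat.of K := X.left.descResidueField (Scheme.stalkClosedPointTo q)
  have hψ : Spec.map ψ ≫ X.left.fromSpecResidueField x = q :=
    X.left.descResidueField_stalkClosedPointTo_fromSpecResidueField K q
  let h : pt (CommAlgCat.of R K) ⟶ pt (kap X x) := Over.homMk (Spec.map ψ) (by
    refine Eq.trans ?_ (Over.w p)
    show Spec.map ψ ≫ _ = q ≫ X.hom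
    rw [← hψ, Category.assoc]
    exact congrArg (Spec.map ψ ≫ ·) (Over.w (kapPt X x)).symm)
  obtain ⟨φ, hφ⟩ := exists_algHom h
  refine ⟨φ, Over.OverMorphism.ext ?_⟩
  exact hψ.symm.trans (congrArg (· ≫ X.left.fromSpecResidueField x) hφ)

theorem kapPt_apply (x : X.left) (z : (pt (kap X x)).left) : (kapPt X x).left z = x :=
  X.left.fromSpecResidueField_apply x z

end Groth.Agent.LinkGr22
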