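import Groth.Agent.LinkGr22.Geometry

/-!
# Components of the linked Grassmannian over a domain
-/

set_option autoImplicit false
set_option linter.unusedSectionVars false
set_option linter.style.haveILetI false
set_option backward.isDefEq.respectTransparency.types false

universe u

open CategoryTheory CategoryTheory.Limits AlgebraicGeometry
open scoped TensorProduct
open Groth.Agent.GrassLib W4c1limliniiii

namespace Groth.Agent.LinkGr22

variable {d r n : ℕ} {R : Type u} [CommRing R] {f g : Fin n → ((Fin d → R) →ₗ[R] (Fin d → R))} {s : R}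
  {hI : ∀ i, (f i).comp (g i) = s • LinearMap.id ∧ (g i).comp (f i) = s • LinearMap.id}
  {X : Over (Spec (CommRingCat.of R))} (D : Rep d r n f g s hI X)

/-- The hypotheses on the fibres. -/
structure HypR (r : ℕ) (f g : Fin n → ((Fin d → R) →ₗ[R] (Fin d → R))) : Prop where
  hrd : r < d
  hII : ∀ (P : Ideal R) [P.IsPrime], ∀ i,
    d ≤ Module.finrank P.ResidueField (LinearMap.range ((f i).baseChange P.ResidueField)) +
      Module.finrank P.ResidueField (LinearMap.range ((g i).baseChange P.ResidueField))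
  hIII : ∀ (P : Ideal R) [P.IsPrime], ∀ i j : Fin n, i.val + 1 = j.val →
    LinearMap.range ((f i).baseChange P.ResidueField) ⊓ LinearMap.ker ((f j).baseChange P.ResidueField) = ⊥ ∧
      LinearMap.range ((g j).baseChange P.ResidueField) ⊓ LinearMap.ker ((g i).baseChange P.ResidueField) = ⊥

theorem range_fA {A : Type u} [CommRing A] [Algebra R A] (h : (Fin d → R) →ₗ[R] (Fin d → R)) :
    LinearMap.range (fA h A) = Submodule.map (kappa (R := R) A d).toLinearMap (LinearMap.range (h.baseChange A)) := by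
  refine le_antisymm ?_ ?_
  · rintro _ ⟨v, rfl⟩
    refine ⟨_, ⟨(kappa (R := R) A d).symm v, rfl⟩, (kappa_baseChange h _).trans ?_⟩
    rw [LinearEquiv.apply_symm_apply]
  · rintro _ ⟨_, ⟨x, rfl⟩, rfl⟩
    exact ⟨_, (kappa_baseChange h x).symm⟩

theorem ker_fA {A : Type u} [CommRing A] [Algebra R A] (h : (Fin d → R) →ₗ[R] (Fin d → R)) :
    LinearMap.ker (fA h A) = Submodule.map (kappa (R := R) A d).toLinearMap (LinearMap.ker (h.baseChange A)) := by
  refine le_antisymm ?_ ?_
  · intro v hv
    refine ⟨(kappa (R := R) A d).symm v, LinearMap.mem_ker.2 ((kappa (R := R) A d).injective ?_),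
      LinearEquiv.apply_symm_apply _ v⟩
    rw [kappa_baseChange, LinearEquiv.apply_symm_apply, map_zero]
    exact hv
  · rintro _ ⟨x, hx, rfl⟩
    show fA h A (kappa A d x) = 0
    rw [← kappa_baseChange, show h.baseChange A x = 0 from hx, map_zero]

theorem Rep.niceR (D : Rep d r n f g s hI X) (H : HypR r f g) (K : Type u) [Field K] [Algebra R K] :
    (D.L K).Nice := by
  let P : Ideal R := RingHom.ker (algebraMap R K)
  haveI : P.IsPrime := RingHom.ker_isPrime _
  let φ : P.ResidueField →ₐ[R] K := Ideal.ResidueField.liftₐ P (Algebra.ofId R K) le_rfl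
    (fun x hx => isUnit_iff_ne_zero.2 hx)
  show ((lkOf f g s hI).at' K).Nice
  rw [← Lk.at_map (lkOf f g s hI) φ]
  refine nice_map _ _ (fun i hi => ?_) (fun i hi => ?_)
  · rw [at_f _ ⟨i, hi⟩, at_g _ ⟨i, hi⟩, range_fA, range_fA, LinearEquiv.finrank_map_eq, LinearEquiv.finrank_map_eq]
    exact H.hII P ⟨i, hi⟩
  · have hi' : i < n := by omega
    rw [at_f _ ⟨i, hi'⟩, at_g _ ⟨i, hi'⟩, at_f _ ⟨i + 1, hi⟩, at_g _ ⟨i + 1, hi⟩, range_fA, range_fA, ker_fA, ker_fA]
    obtain ⟨h1, h2⟩ := H.hIII P ⟨i, hi'⟩ ⟨i + 1, hi⟩ rfl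
    constructor
    · rw [← Submodule.map_inf _ (kappa (R := R) P.ResidueField d).injective, h1, Submodule.map_bot]
    · rw [← Submodule.map_inf _ (kappa (R := R) P.ResidueField d).injective, h2, Submodule.map_bot]

theorem Rep.isPtR (H : HypR r f g) (K : Type u) [Field K] [Algebra R K] (p : pt (CommAlgCat.of R K) ⟶ X) :
    (D.L K).IsPt r (D.V p) :=
  ⟨D.linked p, fun m _ => finrank_eq_of_isGr H.hrd.le (D.isGr p m)⟩

theorem Rep.isPtR_kap (H : HypR r f g) (x : X.left) : (D.L (kap X x)).IsPt r (D.V (kapPt X x)) :=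
  ⟨D.linked _, fun m _ => finrank_eq_of_isGr H.hrd.le (D.isGr _ m)⟩

/-- Where exactness fails some rank can grow at a generization. -/
theorem Rep.exists_gain (H : HypR r f g) (x : X.left) (hx : ¬ D.Ex x) :
    (D.L (kap X x)).s = 0 ∧ ∃ y : X.left, y ⤳ x ∧
      ∑ j ∈ Finset.range n, (D.pAt x j + D.qAt x j) < ∑ j ∈ Finset.range n, (D.pAt y j + D.qAt y j) := by
  have hs : (D.L (kap X x)).s = 0 := by
    by_contra h
    exact hx (Lk.exact_of_ne_zero h _)
  refine ⟨hs, ?_⟩
  have hx' := hx
  rw [Rep.Ex, Lk.exact_iff hs (D.isPtR_kap H x)] at hx'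
  push Not at hx'
  obtain ⟨i, hi, hne⟩ := hx'
  obtain ⟨B, hB, hp, -⟩ := Lk.deform_left hs (D.niceR H (kap X x)) (D.isPtR_kap H x) hi
    (lt_of_le_of_ne (Lk.rk_le hs (D.isPtR_kap H x) hi) hne)
  obtain ⟨y, hy, h⟩ := D.exists_gen x B hB
  refine ⟨y, hy, Finset.sum_lt_sum (fun j hj => Nat.add_le_add (h j (Finset.mem_range.1 hj)).2.1
    (h j (Finset.mem_range.1 hj)).2.2) ⟨i, Finset.mem_range.2 hi, ?_⟩⟩
  have := (h i hi).2.2
  have := (h i hi).1.1
  simp only [Rep.pAt, Rep.qAt] at *
  omega

/-- A point without proper generizations is exact. -/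
theorem Rep.ex_of_minimal (H : HypR r f g) {η : X.left} (hη : ∀ z, z ⤳ η → η = z) : D.Ex η := by
  by_contra h
  obtain ⟨-, y, hy, hlt⟩ := D.exists_gain H η h
  rw [← hη y hy] at hlt
  exact lt_irrefl _ hlt

theorem Rep.exists_chartR (H : HypR r f g) {x : X.left} (hx : D.Ex x) :
    ∃ σ : CD d r n, x ∈ Set.range (D.jU σ).left := by
  obtain ⟨σ, hσ⟩ := Lk.exists_chart H.hrd.le (D.niceR H (kap X x)) (D.isPtR_kap H x) hx
  exact ⟨σ, (mem_range_jU_iff D σ x).2 hσ⟩

variable [IsDomain R]

theorem Rep.isDomain_chartR (σ : CD d r n) (u : (pt (D.U σ)).left) : IsDomain (D.U σ) := by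
  have hne : (lkOf f g s hI).Delta σ ≠ 0 := fun h0 => by
    haveI : Subsingleton (Localization.Away ((lkOf f g s hI).Delta σ)) :=
      IsLocalization.subsingleton (M := Submonoid.powers ((lkOf f g s hI).Delta σ)) (h0 ▸ Submonoid.mem_powers _)
    exact (u : PrimeSpectrum (Localization.Away ((lkOf f g s hI).Delta σ))).2.ne_top
      ((Ideal.eq_top_iff_one _).2 (Subsingleton.elim (0 : Localization.Away ((lkOf f g s hI).Delta σ)) 1 ▸ Ideal.zero_mem _))
  exact (IsLocalization.isDomain_of_le_nonZeroDivisors (Localization.Away ((lkOf f g s hI).Delta σ))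
    (powers_le_nonZeroDivisors_of_noZeroDivisors hne) : IsDomain (Localization.Away ((lkOf f g s hI).Delta σ)))

/-- A point without proper generizations that generizes a point of a chart is the generic point of the chart. -/
theorem Rep.eq_genericR {σ : CD d r n} {η x : X.left} (hη : ∀ z, z ⤳ η → η = z) (hs : η ⤳ x)
    (hx : x ∈ Set.range (D.jU σ).left) :
    ∃ w : (pt (D.U σ)).left, (∀ u, w ⤳ u) ∧ (D.jU σ).left w = η := by
  obtain ⟨u, hu⟩ := hs.mem_open (isOpenImmersion_jU D σ).base_open.isOpen_range hx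
  haveI := D.isDomain_chartR σ u
  refine ⟨(⟨⊥, Ideal.isPrime_bot⟩ : PrimeSpectrum (D.U σ)),
    fun v => (PrimeSpectrum.le_iff_specializes (⟨⊥, Ideal.isPrime_bot⟩ : PrimeSpectrum (D.U σ)) v).1 bot_le, ?_⟩
  refine (hη _ (hu ▸ Specializes.map ?_ (D.jU σ).left.continuous)).symm
  exact (PrimeSpectrum.le_iff_specializes (⟨⊥, Ideal.isPrime_bot⟩ : PrimeSpectrum (D.U σ)) u).1 bot_le

include D in
/-- The generic point of a component lies over the generic point of the base. -/
theorem Rep.hom_apply_minimal (H : HypR r f g) {η : X.left} (hη : ∀ z, z ⤳ η → η = z) :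
    X.hom η = (⟨⊥, Ideal.isPrime_bot⟩ : PrimeSpectrum R) := by
  obtain ⟨σ, hσ⟩ := D.exists_chartR H (D.ex_of_minimal H hη)
  obtain ⟨w, hw, e⟩ := D.eq_genericR hη specializes_rfl hσ
  rw [← e, ← Scheme.Hom.comp_apply, Over.w (D.jU σ)]
  haveI := D.isDomain_chartR σ w
  have h0 : (w : PrimeSpectrum (D.U σ)).asIdeal = ⊥ :=
    le_bot_iff.1 ((PrimeSpectrum.le_iff_specializes (w : PrimeSpectrum (D.U σ)) ⟨⊥, Ideal.isPrime_bot⟩).2 (hw _))
  have hne : (lkOf f g s hI).Delta σ ≠ 0 := fun h => by
    haveI : Subsingleton (Localization.Away ((lkOf f g s hI).Delta σ)) :=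
      IsLocalization.subsingleton (M := Submonoid.powers ((lkOf f g s hI).Delta σ)) (h ▸ Submonoid.mem_powers _)
    exact not_subsingleton (D.U σ) (inferInstanceAs (Subsingleton (Localization.Away ((lkOf f g s hI).Delta σ))))
  have hinj : Function.Injective (algebraMap R (Localization.Away ((lkOf f g s hI).Delta σ))) := by
    rw [IsScalarTower.algebraMap_eq R (PolyC R σ) (Localization.Away ((lkOf f g s hI).Delta σ))]
    exact (IsLocalization.injective (Localization.Away ((lkOf f g s hI).Delta σ))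
      (powers_le_nonZeroDivisors_of_noZeroDivisors hne)).comp (MvPolynomial.C_injective _ R)
  refine PrimeSpectrum.ext ?_
  show Ideal.comap (algebraMap R (D.U σ)) (w : PrimeSpectrum (D.U σ)).asIdeal = ⊥
  rw [h0]
  exact Ideal.comap_bot_of_injective _ hinj

include D in
theorem Rep.isProperR : IsProper X.hom := by
  obtain ⟨Y, e', he', hY⟩ := exists_linked R d r n f g
  obtain ⟨i, -⟩ := exists_iso (fun A => (D.e A).trans (e' A).symm) fun A B φ x x' h => by
    have h1 : (e' B).symm (D.e B x') = ptMap φ ≫ (e' A).symm (D.e A x) := by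
      refine (e' B).symm_apply_eq.2 (Subtype.ext (funext fun i => ?_))
      rw [D.he A B φ x x' h, he' A B φ _ (ptMap φ ≫ (e' A).symm (D.e A x)) rfl, Equiv.apply_symm_apply]
    exact congrArg CommaMorphism.left h1
  haveI : IsIso i.hom.left := (inferInstance : IsIso ((Over.forget _).map i.hom))
  haveI := hY
  rw [← Over.w i.hom]
  infer_instance

include D in
/-- Every component maps onto the base. -/
theorem Rep.image_component (H : HypR r f g) {Z : Set X.left} (hZ : Z ∈ irreducibleComponents X.left) :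
    X.hom '' Z = Set.univ := by
  obtain ⟨η, hη, hmin⟩ := DimLib.exists_genericPoint_of_mem_components hZ
  haveI := D.isProperR
  have hcl : IsClosed (X.hom '' Z) := X.hom.isClosedMap _ hη.isClosed
  refine Set.eq_univ_iff_forall.2 fun P => ?_
  have hs : X.hom η ⤳ P := by
    rw [D.hom_apply_minimal H hmin]
    exact (PrimeSpectrum.le_iff_specializes (⟨⊥, Ideal.isPrime_bot⟩ : PrimeSpectrum R) P).1 bot_le
  exact hs.mem_closed hcl ⟨η, hη.mem, rfl⟩

theorem Lk.up_succ_mem {A : Type u} [CommRing A] (L : Lk A d n) (v : Fin d → A) {i : ℕ} (hi : i < n) :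
    L.f i (L.W i 0 v) = L.W (i + 1) 0 v ∧ L.g i (L.W (i + 1) 0 v) = L.s • L.W i 0 v := by
  rw [L.f_W hi, L.g_W hi, if_pos (Nat.zero_le i), if_pos (Nat.zero_le i), one_smul]
  exact ⟨rfl, rfl⟩

theorem Lk.W_injective {K : Type u} [Field K] {L : Lk K d n} (hs : L.s ≠ 0) :
    ∀ m ≤ n, Function.Injective fun v => L.W m 0 v := by
  intro m hm
  induction m with
  | zero => exact fun v w h => by simpa [Lk.W_self] using h
  | succ m ih =>
    intro v w h
    refine ih (by omega) (smul_right_injective (Fin d → K) hs ?_)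
    have := congrArg (L.g m) h
    rwa [(L.up_succ_mem v (by omega)).2, (L.up_succ_mem w (by omega)).2] at this

/-- The chain generated by vectors at level zero is the chain of a point. -/
theorem Rep.exists_pt_of_rows {K : Type u} [Field K] [Algebra R K] (hrd : r ≤ d) (hs : algebraMap R K s ≠ 0)
    (Y : Fin r → Fin d → K) (hY : LinearIndependent K Y) :
    ∃ p : pt (CommAlgCat.of R K) ⟶ X,
      ∀ m ≤ n, D.V p m = Submodule.span K (Set.range fun l => (D.L K).W m 0 (Y l)) := by
  have hli : ∀ m ≤ n, LinearIndependent K fun l => (D.L K).W m 0 (Y l) := by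
    intro m hm
    induction m with
    | zero => simpa [Lk.W_self] using hY
    | succ m ih =>
      refine LinearIndependent.of_comp ((D.L K).g m) ?_
      rw [show ((D.L K).g m) ∘ (fun l => (D.L K).W (m + 1) 0 (Y l)) = fun l => algebraMap R K s • (D.L K).W m 0 (Y l)
        from funext fun l => ((D.L K).up_succ_mem (Y l) (by omega)).2]
      exact (ih (by omega)).units_smul fun _ => Units.mk0 _ hs
  refine D.exists_pt (A := CommAlgCat.of R K) (fun i hi => ⟨?_, ?_⟩) fun m hm => ?_
  · rw [Submodule.map_span]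
    refine Submodule.span_le.2 ?_
    rintro _ ⟨_, ⟨l, rfl⟩, rfl⟩
    exact Submodule.subset_span ⟨l, ((D.L K).up_succ_mem (Y l) hi).1.symm⟩
  · rw [Submodule.map_span]
    refine Submodule.span_le.2 ?_
    rintro _ ⟨_, ⟨l, rfl⟩, rfl⟩
    show (D.L K).g i ((D.L K).W (i + 1) 0 (Y l)) ∈ _
    rw [((D.L K).up_succ_mem (Y l) hi).2]
    exact Submodule.smul_mem _ _ (Submodule.subset_span ⟨l, rfl⟩)
  · obtain ⟨Y', J, hJ, hu, hY'⟩ := exists_rows
      (N := Submodule.span K (Set.range fun l => (D.L K).W m 0 (Y l))) ((finrank_span_eq_card (hli m hm)).trans (Fintype.card_fin r))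
    rw [← hY']
    exact isGr_span hJ hu

theorem isUnit_iff_detJ {K : Type u} [Field K] {J : Fin r → Fin d} {Y Y' : Fin r → Fin d → K}
    (hY : LinearIndependent K Y) (hsp : Submodule.span K (Set.range Y') ≤ Submodule.span K (Set.range Y))
    (hu : IsUnit (detJ J Y')) : IsUnit (detJ J Y) := by
  rw [isUnit_iff_ne_zero]
  intro h0
  obtain ⟨a, ha, haz⟩ := Matrix.exists_vecMul_eq_zero_iff.2 h0
  rw [← pr_sum] at haz
  have heq : Submodule.span K (Set.range Y') = Submodule.span K (Set.range Y) :=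
    Submodule.eq_of_le_of_finrank_eq hsp
      ((finrank_span_eq_card (linearIndependent_of_detJ hu)).trans (finrank_span_eq_card hY).symm)
  exact ha (funext (Fintype.linearIndependent_iff.1 hY a (eq_zero_of_pr hu (heq ▸
    Submodule.sum_mem _ fun l _ => Submodule.smul_mem _ _ (Submodule.subset_span ⟨l, rfl⟩)) haz)))

include D in
theorem Rep.irreducible (H : HypR r f g) (hs : s ≠ 0) : IrreducibleSpace X.left := by
  classical
  let P := MvPolynomial (Fin r × Fin d) R
  let M : Fin r → Fin d → P := fun l j => MvPolynomial.X (l, j)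
  let K := FractionRing P
  let MK : Fin r → Fin d → K := fun l => algebraMap P K ∘ M l
  have hsK : algebraMap R K s ≠ 0 := by
    rw [IsScalarTower.algebraMap_apply R P K]
    exact (map_ne_zero_iff _ (IsFractionRing.injective P K)).2 ((map_ne_zero_iff _ (MvPolynomial.C_injective _ R)).2 hs)
  have key : ∀ (J : Fin r → Fin d) (F : Type u) [Field F] [Algebra R F] (Y : Fin r → Fin d → F) (m : ℕ),
      IsUnit (detJ J fun l => (D.L F).W m 0 (Y l)) → IsUnit (detJ J fun l => (D.L K).W m 0 (MK l)) := by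
    intro J F _ _ Y m hu
    let ev : P →ₐ[R] F := MvPolynomial.aeval fun q => Y q.1 q.2
    have hev : ∀ l, ev.toRingHom ∘ M l = Y l := fun l => funext fun j => MvPolynomial.aeval_X _ _
    rw [show (fun l => (D.L F).W m 0 (Y l)) = fun l => ev.toRingHom ∘ (D.L P).W m 0 (M l) from funext fun l => by
      rw [← hev l, ← Lk.map_W]
      show ((lkOf f g s hI).at' F).W m 0 _ = _
      rw [← Lk.at_map (lkOf f g s hI) ev], detJ_map, isUnit_iff_ne_zero] at hu
    rw [show (fun l => (D.L K).W m 0 (MK l)) = fun l => (IsScalarTower.toAlgHom R P K).toRingHom ∘ (D.L P).W m 0 (M l)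
      from funext fun l => by
        rw [← Lk.map_W]
        show ((lkOf f g s hI).at' K).W m 0 _ = _
        rw [← Lk.at_map (lkOf f g s hI) (IsScalarTower.toAlgHom R P K)]
        rfl, detJ_map, isUnit_iff_ne_zero]
    exact (map_ne_zero_iff _ (IsFractionRing.injective P K)).2 fun h => hu (by rw [h, map_zero])
  have hMK : LinearIndependent K MK := by
    let J : Fin r → Fin d := Fin.castLE H.hrd.le
    have h := key J K (fun l => Pi.single (J l) 1) 0 (by
      simp only [Lk.W_self]
      rw [detJ, show (Matrix.of fun l i => (Pi.single (J l) (1 : K) : Fin d → K) (J i)) = 1 from ?_, Matrix.det_one]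
      · exact isUnit_one
      ext l i
      simp [Matrix.one_apply, Pi.single_apply, J, eq_comm])
    simp only [Lk.W_self] at h
    exact linearIndependent_of_detJ h
  obtain ⟨q, hq⟩ := D.exists_pt_of_rows H.hrd.le hsK MK hMK
  obtain ⟨z⟩ : Nonempty (pt (CommAlgCat.of R K)).left := inferInstanceAs (Nonempty (PrimeSpectrum K))
  have main : ∀ η : X.left, (∀ y, y ⤳ η → η = y) →
      ∃ σ : CD d r n, η ∈ Set.range (D.jU σ).left ∧ q.left z ∈ Set.range (D.jU σ).left := by
    intro η hη
    have hsη : (D.L (kap X η)).s ≠ 0 := by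
      intro h0
      have hker : s ∈ RingHom.ker (algebraMap R (kap X η)) := h0
      have he : X.hom η = (⟨⊥, Ideal.isPrime_bot⟩ : PrimeSpectrum R) := D.hom_apply_minimal H hη
      obtain ⟨w⟩ : Nonempty (pt (kap X η)).left := inferInstanceAs (Nonempty (PrimeSpectrum (kap X η)))
      have hw : (pt (kap X η)).hom w = X.hom η := by
        rw [← Over.w (kapPt X η), Scheme.Hom.comp_apply, kapPt_apply]
      rw [he] at hw
      have hw' : Ideal.comap (algebraMap R (kap X η)) (w : PrimeSpectrum (kap X η)).asIdeal = ⊥ :=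
        congrArg PrimeSpectrum.asIdeal hw
      have hz : algebraMap R (kap X η) s ∈ (w : PrimeSpectrum (kap X η)).asIdeal := by
        rw [show algebraMap R (kap X η) s = 0 from hker]
        exact Ideal.zero_mem _
      exact hs ((Submodule.mem_bot R).1 (hw'.le hz))
    obtain ⟨Y, J₀, hJ₀, hu, hY⟩ := exists_rows (N := D.V (kapPt X η) 0) ((D.isPtR_kap H η).2 0 (Nat.zero_le n))
    obtain ⟨p, hp⟩ := D.exists_pt_of_rows (K := kap X η) H.hrd.le hsη Y (linearIndependent_of_detJ hu)
    have hmem : ∀ m ≤ n, ∀ l, (D.L (kap X η)).W m 0 (Y l) ∈ D.V (kapPt X η) m := by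
      intro m hm l
      induction m with
      | zero => rw [Lk.W_self, ← hY]; exact Submodule.subset_span ⟨l, rfl⟩
      | succ m ih =>
        rw [← ((D.L (kap X η)).up_succ_mem (Y l) (by omega)).1]
        exact (D.linked (kapPt X η) m (by omega)).1 ⟨_, ih (by omega), rfl⟩
    have hJm : ∀ m, ∃ J : Fin r ↪ Fin d, m ≤ n → IsUnit (detJ J fun l => (D.L (kap X η)).W m 0 (Y l)) := by
      intro m
      by_cases hm : m ≤ n
      · obtain ⟨Y', J, hJ, hu', hY'⟩ := exists_rows (N := D.V (kapPt X η) m) ((D.isPtR_kap H η).2 m hm)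
        have hli : LinearIndependent (kap X η) fun l => (D.L (kap X η)).W m 0 (Y l) := by
          rw [linearIndependent_iff_card_eq_finrank_span, Fintype.card_fin]
          have := finrank_eq_of_isGr H.hrd.le (D.isGr p m)
          rw [hp m hm] at this
          exact this.symm
        refine ⟨⟨J, hJ⟩, fun _ => isUnit_iff_detJ hli ?_ hu'⟩
        refine (hY'.trans_le ?_)
        refine (Submodule.eq_of_le_of_finrank_eq (Submodule.span_le.2 ?_) ?_).ge
        · rintro _ ⟨l, rfl⟩
          exact hmem m hm l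
        · rw [finrank_span_eq_card hli, Fintype.card_fin]
          exact ((D.isPtR_kap H η).2 m hm).symm
      · exact ⟨Fin.castLEEmb H.hrd.le, fun h => absurd h hm⟩
    choose J hJ using hJm
    let σ : CD d r n := ⟨fun m => J m.1, fun _ => 0, id⟩
    have hchart : ∀ (F : Type u) [Field F] [Algebra R F] (p : pt (CommAlgCat.of R F) ⟶ X) (Y : Fin r → Fin d → F),
        (∀ m ≤ n, ∀ l, (D.L F).W m 0 (Y l) ∈ D.V p m) →
        (∀ m ≤ n, IsUnit (detJ (J m) fun l => (D.L F).W m 0 (Y l))) → D.InC σ p := by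
      intro F _ _ p Y hm hu
      have hJσ : ∀ m ≤ n, σ.J m = J m := fun m hm' => by
        show ((J (min m n) : Fin r ↪ Fin d) : Fin r → Fin d) = J m
        rw [min_eq_left hm']
      have hu0 : IsUnit (detJ (σ.J 0) Y) := by
        have := hu 0 (Nat.zero_le n)
        rw [hJσ 0 (Nat.zero_le n)]
        simpa [Lk.W_self] using this
      have hinv : Invertible (Matrix.of fun l i => Y l (σ.J 0 i)) := Matrix.invertibleOfIsUnitDet _ hu0
      let Z : Fin r → Fin d → F := fun l => ∑ l', (⅟ (Matrix.of fun l i => Y l (σ.J 0 i))) l l' • Y l'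
      have hpr : ∀ l, pr (σ.J 0) (Z l) = Pi.single l 1 := fun l => by
        rw [pr_sum]
        funext i
        show ((⅟ (Matrix.of fun l i => Y l (σ.J 0 i))) * (Matrix.of fun l i => Y l (σ.J 0 i))) l i = _
        rw [invOf_mul_self, Matrix.one_apply, Pi.single_apply]
        simp [eq_comm]
      let c : σ.Crd → F := fun t => Z t.1 t.2.1
      have hvec : ∀ l, σ.vec c l = Z l := fun l => by
        funext j
        by_cases hj : j ∈ Set.range (σ.J (σ.lv l))
        · obtain ⟨i, rfl⟩ := hj
          exact (congrFun (σ.pr_vec c l) i).trans (congrFun (hpr l) i).symm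
        · rw [CD.vec, dif_neg hj]
      have hVm : ∀ m ≤ n, D.V p m = Submodule.span F (Set.range fun l => (D.L F).W m 0 (Y l)) := fun m hm' =>
        (Submodule.eq_of_le_of_finrank_eq (Submodule.span_le.2 (by rintro _ ⟨l, rfl⟩; exact hm m hm' l)) (by
          rw [finrank_span_eq_card (linearIndependent_of_detJ (hu m hm')), Fintype.card_fin]
          exact ((D.isPtR H F p).2 m hm').symm)).symm
      have hrows : ∀ m ≤ n, IsUnit ((D.L F).delta σ c m) := fun m hm' => by
        have hW : (D.L F).rows σ c m = fun l => (D.L F).W m 0 (Z l) := funext fun l => by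
          show (D.L F).W m (σ.lv l) (σ.vec c l) = _
          rw [hvec]
          rfl
        have hlin : ∀ (l : Fin r), (D.L F).W m 0 (Z l) =
            ∑ l', (⅟ (Matrix.of fun l i => Y l (σ.J 0 i))) l l' • (D.L F).W m 0 (Y l') := fun l => by
          simp only [Z, map_sum, map_smul]
        rw [Lk.delta, hW, hJσ m hm']
        simp only [hlin]
        rw [show detJ (J m) (fun l => ∑ l', (⅟ (Matrix.of fun l i => Y l (σ.J 0 i))) l l' • (D.L F).W m 0 (Y l')) =
          ((⅟ (Matrix.of fun l i => Y l (σ.J 0 i))) * Matrix.of fun l i => (D.L F).W m 0 (Y l) (J m i)).det from ?_,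
          Matrix.det_mul]
        · exact (Matrix.isUnit_det_of_invertible _).mul (hu m hm')
        · rw [detJ]
          congr 1
          ext l i
          simp [Matrix.mul_apply, Finset.sum_apply]
      refine ⟨c, hrows, (D.L F).eq_chartV σ (D.linked p) (fun m _ => D.isGr p m) (fun l => ?_) hrows⟩
      rw [hvec]
      refine Submodule.sum_mem _ fun l' _ => Submodule.smul_mem _ _ ?_
      have h0 := hm 0 (Nat.zero_le n) l'
      rw [Lk.W_self] at h0
      exact h0
    refine ⟨σ, (mem_range_jU_iff D σ η).2 (@hchart (kap X η) _ (kap X η).algebra (kapPt X η) Y hmem hJ),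
      (mem_range_jU_iff D σ _).2 (inC_kapPt D σ K q (hchart K q MK (fun m hm l => ?_) fun m hm =>
        key (J m) _ Y m (hJ m hm)) z)⟩
    rw [hq m hm]
    exact Submodule.subset_span ⟨l, rfl⟩
  obtain ⟨η₀, hη₀, hmin₀⟩ := DimLib.exists_genericPoint_of_mem_components
    (irreducibleComponent_mem_irreducibleComponents (q.left z))
  have hall : ∀ y, η₀ ⤳ y := by
    intro y
    obtain ⟨η, hη, hmin⟩ := DimLib.exists_genericPoint_of_mem_components
      (irreducibleComponent_mem_irreducibleComponents y)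
    have hy : η ⤳ y := hη.specializes mem_irreducibleComponent
    suffices η₀ = η by rw [this]; exact hy
    obtain ⟨σ, hσ, hzσ⟩ := main η hmin
    obtain ⟨w₁, hw₁, e₁⟩ := D.eq_genericR hmin specializes_rfl hσ
    obtain ⟨w₂, hw₂, e₂⟩ := D.eq_genericR hmin₀ (hη₀.specializes mem_irreducibleComponent) hzσ
    rw [← e₁, ← e₂, ((hw₂ w₁).antisymm (hw₁ w₂)).eq]
  haveI : Nonempty X.left := ⟨η₀⟩
  refine (irreducibleSpace_def _).2 ?_
  have : closure ({η₀} : Set X.left) = Set.univ := Set.eq_univ_iff_forall.2 fun y => (hall y).mem_closure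
  rw [Set.top_eq_univ, ← this]
  exact isIrreducible_singleton.closure

end Groth.Agent.LinkGr22
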